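import Cfsg.Agent.Lib.LargeFischer.Inner.Recog
import Cfsg.Agent.Lib.Cores.Components

/-!
# Every involution of `Q` of the other class: from one triangle
-/

set_option autoImplicit false
set_option linter.unusedSectionVars false
set_option linter.style.haveILetI false
set_option maxHeartbeats 1000000

namespace CfsgLib.LargeFischer.Inner

open Subgroup QuadraticMap CfsgLib.LargeFischer.Thompson
open Cfsg (GolayPt)
open CfsgLib.Schur.Tails.UFour (H4)
open scoped Pointwise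

universe w

variable {G : Type w} [Group G] [Finite G] {z : G}
  {Q : Subgroup (centralizer ({z} : Set G))} [Q.Normal] {V : Type*} [AddCommGroup V] [Module (ZMod 2) V]
  [DistribMulAction ((centralizer ({z} : Set G)) ⧸ Q) V] [Finite V] {q : QuadraticForm (ZMod 2) V} {π : ↥Q → V}
  {n : (centralizer ({z} : Set G)) ⧸ Q} {M : Subgroup ((centralizer ({z} : Set G)) ⧸ Q)} {φ : ↥M →* ↥H4}
  {s : V} {E : Subgroup ((centralizer ({z} : Set G)) ⧸ Q)} {D : AddSubgroup V}
  {A : Subgroup G} {Ab : Subgroup ((centralizer ({z} : Set G)) ⧸ Q)}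

/-- The conclusion about the centraliser of `t`. -/
def GoodCent (t : G) : Prop :=
  ∀ (K : Subgroup ↥(centralizer ({t} : Set G))),
    K = Cfsg.generalizedFittingSubgroup ↥(centralizer ({t} : Set G)) →
    ∀ [((zpowers t).subgroupOf (centralizer ({t} : Set G))).Normal],
    Cfsg.IsQuasisimple ↥K ∧ K.index = 2 ∧
      (∃ htc : t ∈ centralizer ({t} : Set G), (⟨t, htc⟩ : ↥(centralizer ({t} : Set G))) ∈ K) ∧
      Nonempty (↥(centralizer ({t} : Set G)) ⧸ (zpowers t).subgroupOf (centralizer ({t} : Set G)) ≃*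
        MulAut Cfsg.Spor.Fi22)

theorem GoodCent.conj {t : G} (h : GoodCent t) (k : G) : GoodCent (k * t * k⁻¹) := by
  intro K hK hn'
  haveI hn : ((zpowers t).subgroupOf (centralizer ({t} : Set G))).Normal := ⟨fun x hx g => by
    rw [mem_subgroupOf] at hx ⊢
    obtain ⟨i, hi⟩ := Subgroup.mem_zpowers_iff.1 hx
    refine ⟨i, ?_⟩
    show t ^ i = (g : G) * (x : G) * (g : G)⁻¹
    have hc : Commute (g : G) t := mem_centralizer_singleton_iff.1 g.2
    rw [← hi, (hc.zpow_right i).eq, mul_inv_cancel_right]⟩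
  let σ : ↥(centralizer ({t} : Set G)) ≃* ↥(centralizer ({k * t * k⁻¹} : Set G)) :=
    { toFun := fun x => ⟨k * x * k⁻¹, CfsgLib.U6Recog.Rec.cent_conj.2 (by simp [mul_assoc])⟩
      invFun := fun x => ⟨k⁻¹ * x * k, CfsgLib.U6Recog.Rec.cent_conj.1 x.2⟩
      left_inv := fun x => Subtype.ext (by simp [mul_assoc])
      right_inv := fun x => Subtype.ext (by simp [mul_assoc])
      map_mul' := fun x y => Subtype.ext (by simp [mul_assoc]) }
  obtain ⟨h1, h2, ⟨htc, h3⟩, ⟨e⟩⟩ := h _ rfl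
  have hmap : K = (Cfsg.generalizedFittingSubgroup ↥(centralizer ({t} : Set G))).map σ.toMonoidHom := by
    rw [hK, CfsgLib.Cores.map_generalizedFittingSubgroup_equiv]
  subst hmap
  refine ⟨CfsgLib.Cores.isQuasisimple_of_equiv (Subgroup.equivMapOfInjective _ _ σ.injective) h1,
    (Subgroup.index_map_equiv _ σ).trans h2, ⟨mem_centralizer_singleton_iff.2 rfl, ⟨⟨t, htc⟩, h3, rfl⟩⟩,
    ⟨(QuotientGroup.congr ((zpowers t).subgroupOf _) _ σ ?_).symm.trans e⟩⟩
  ext y
  constructor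
  · rintro ⟨x, hx, rfl⟩
    obtain ⟨i, hi⟩ := Subgroup.mem_zpowers_iff.1 (show (x : G) ∈ zpowers t from hx)
    refine ⟨i, ?_⟩
    show (k * t * k⁻¹) ^ i = k * (x : G) * k⁻¹
    rw [conj_zpow, hi]
  · intro hy
    obtain ⟨i, hi⟩ := Subgroup.mem_zpowers_iff.1 (show (y : G) ∈ zpowers (k * t * k⁻¹) from hy)
    refine ⟨σ.symm y, ⟨i, ?_⟩, σ.apply_symm_apply y⟩
    show t ^ i = k⁻¹ * (y : G) * k
    rw [← hi, conj_zpow]
    group

/-- All involutions of `Q` of the other class are fused. -/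
theorem conj_of_other (c : Ctx Q q π n M φ s E D A Ab) {tq : ↥Q} (h1 : val tq ∈ Ns z A) {t : ↥Q}
    (ht2 : orderOf (val t) = 2) (ht : ¬ IsConj z (val t)) :
    ∃ k : G, k * val tq * k⁻¹ = val t := by
  have key : ∀ y : ↥Q, val y ≠ 1 → val y * val y = 1 → ¬ IsConj z (val y) →
      π y ≠ 0 ∧ q (π y) = 0 ∧ π y ∉ MulAction.orbit ((centralizer ({z} : Set G)) ⧸ Q) s := by
    intro y hy1 hyy hy
    have h0 : π y ≠ 0 := fun e => ((c.mdl.ker y).1 e).elim hy1 fun r => hy (by rw [show val y = z from r])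
    exact ⟨h0, (c.mdl.sq y).2 (Subtype.ext (Subtype.ext hyy)), fun e => hy ((c.isConj_iff_orbit h0).2 e)⟩
  have htne : val t ≠ 1 := fun e => by rw [e, orderOf_one] at ht2; omega
  obtain ⟨a0, a1, a2⟩ := key tq h1.2.1 (c.sq h1.1) h1.2.2
  obtain ⟨b0, b1, b2⟩ := key t htne (by rw [← pow_two, ← ht2, pow_orderOf_eq_one]) ht
  obtain ⟨w, hw⟩ := c.mdl.exists_conj c.hF a0 ((c.oth.core.rest_facts c.oth.cen a1 a0 a2).2.2 _ b1 b0 b2)
  exact ⟨(w : G), congrArg Subtype.val hw⟩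

/-- From a labelling with a block of the sextet and the centraliser of one of its triangles. -/
theorem goodCent_of_triangle (c : Ctx Q q π n M φ s E D A Ab) (f₀ : Fin 6 × Fin 4 → G)
    (hmem : ∀ x, f₀ x ∈ A) (hpair : ∀ a b, a ≠ b → f₀ a * f₀ b ∈ Ns z A)
    (hcover : ∀ x ∈ Ns z A, ∃ a b, a ≠ b ∧ f₀ a * f₀ b = x)
    (hcell : f₀ (0, 0) * f₀ (0, 1) * f₀ (0, 2) * f₀ (0, 3) = z) {T₀ : V}
    (hline : ∀ a b : Fin 4, a ≠ b → ∃ y : ↥Q, val y = f₀ (0, a) * f₀ (0, b) ∧ π y ≠ 0 ∧ π y ∈ ln n T₀)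
    {F : Type} [Field F] [Fintype F] (hF4 : Fintype.card F = 4) (X : Subgroup G)
    (hX : ∀ g, g ∈ X ↔ g * (f₀ (0, 1) * f₀ (0, 2)) = f₀ (0, 1) * f₀ (0, 2) * g ∧
      g * (f₀ (0, 2) * f₀ (0, 3)) = f₀ (0, 2) * f₀ (0, 3) * g)
    (hperf : commutator ↥X = ⊤) (θ : ↥X →* Cfsg.PSU 6 F 2) (hθ : Function.Surjective θ)
    (hθk : ∀ g : ↥X, θ g = 1 ↔ (g : G) = 1 ∨ (g : G) = f₀ (0, 1) * f₀ (0, 2) ∨ (g : G) = f₀ (0, 2) * f₀ (0, 3) ∨
      (g : G) = f₀ (0, 1) * f₀ (0, 3))
    {t : ↥Q} (ht2 : orderOf (val t) = 2) (ht : ¬ IsConj z (val t)) : GoodCent (val t) := by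
  obtain ⟨e, ψ, L⟩ := exists_lab_of c f₀ hmem hpair hcover
  obtain ⟨tq, htq, htq0, htl⟩ := hline 1 2 (by decide)
  obtain ⟨uq, huq, huq0, hul⟩ := hline 2 3 (by decide)
  have hne : ∀ {k j : Fin 4}, k ≠ j → e (0, k) ≠ e (0, j) := fun h r => h (congrArg Prod.snd (e.injective r))
  have hf : ∀ p, f₀ (e.symm (e p)) = f₀ p := fun p => by rw [Equiv.symm_apply_apply]
  have hline' : π uq = n • π tq ∨ π uq = n • n • π tq := by
    have hne' : π uq ≠ π tq := fun r => by
      have ha := L.pair (e (0, 1)) (e (0, 3)) (hne (by decide))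
      rw [hf, hf] at ha
      have he : val tq * val uq = f₀ (0, 1) * f₀ (0, 3) := by
        rw [htq, huq, mul_assoc, ← mul_assoc (f₀ (0, 2)), c.sq (hmem _), one_mul]
      rcases c.mdl.pi_eq r with r' | r'
      · refine ha.2.1 (he.symm.trans ?_)
        rw [show val tq = val uq from r', c.sq (huq ▸ mul_mem (hmem _) (hmem _))]
      · refine ha.2.2 ?_
        rw [← he, show val tq = val uq * z from r', mul_assoc, c.comm c.z_mem (huq ▸ mul_mem (hmem _) (hmem _)), ← mul_assoc,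
          c.sq (huq ▸ mul_mem (hmem _) (hmem _)), one_mul]
    have h3 := c.mdl.core.smul_n_three
    simp only [ln, Set.mem_insert_iff, Set.mem_singleton_iff] at htl hul
    rcases htl with r | r | r | r <;> rcases hul with r' | r' | r' | r'
    all_goals first
      | exact absurd r htq0
      | exact absurd r' huq0
      | exact absurd (r'.trans r.symm) hne'
      | (refine Or.inl ?_; simp only [r, r', h3]; done)
      | (refine Or.inr ?_; simp only [r, r', h3]; done)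
  have d : Cfg Q q π n M φ s E D A Ab (fun x => f₀ (e.symm x)) ψ (e (0, 1)) (e (0, 2)) (e (0, 3)) (e (0, 0)) tq uq := by
    refine ⟨c, L, hne (by decide), hne (by decide), hne (by decide), hne (by decide), hne (by decide),
      hne (by decide), ?_, ?_, ?_, hline'⟩
    · simp only [hf]
      calc f₀ (0, 1) * f₀ (0, 2) * (f₀ (0, 3) * f₀ (0, 0)) = f₀ (0, 1) * f₀ (0, 2) * f₀ (0, 3) * f₀ (0, 0) :=
            (mul_assoc _ _ _).symm
        _ = f₀ (0, 0) * (f₀ (0, 1) * f₀ (0, 2) * f₀ (0, 3)) :=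
            c.comm (mul_mem (mul_mem (hmem _) (hmem _)) (hmem _)) (hmem _)
        _ = z := by rw [← mul_assoc, ← mul_assoc, hcell]
    · simp only [hf]; exact htq
    · simp only [hf]; exact huq
  have hut : val uq * val tq = f₀ (0, 1) * f₀ (0, 3) := by rw [d.ut]; simp only [hf]
  have hgood : GoodCent (val tq) := fun K hK => d.structure_cent (X := X) (by rw [htq, huq]; exact hX) hperf hF4 θ hθ
    (fun g => by rw [hθk, hut, htq, huq]) K hK
  obtain ⟨k, hk⟩ := conj_of_other c (tq := tq) d.t_Ns ht2 ht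
  rw [← hk]
  exact hgood.conj k

end CfsgLib.LargeFischer.Inner
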