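import Cfsg.Agent.Lib.LargeFischer.Thompson.Normaliser
import Cfsg.Agent.Lib.Golay.M24Sub

/-!
# The elementary group of order `2^11` labelled by the pairs of the 24 points, with the action of its normaliser
-/

set_option autoImplicit false
set_option linter.unusedSectionVars false
set_option linter.style.haveILetI false
set_option maxHeartbeats 1000000

namespace CfsgLib.LargeFischer.Inner

open Subgroup QuadraticMap CfsgLib.LargeFischer.Thompson
open Cfsg (GolayPt)
open CfsgLib.Schur.Tails.UFour (H4)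
open scoped Pointwise

variable {G : Type*} [Group G] [Finite G] {z : G}
  {Q : Subgroup (centralizer ({z} : Set G))} [Q.Normal] {V : Type*} [AddCommGroup V] [Module (ZMod 2) V]
  [DistribMulAction ((centralizer ({z} : Set G)) ⧸ Q) V] [Finite V] {q : QuadraticForm (ZMod 2) V} {π : ↥Q → V}
  {n : (centralizer ({z} : Set G)) ⧸ Q} {M : Subgroup ((centralizer ({z} : Set G)) ⧸ Q)} {φ : ↥M →* ↥H4}
  {s : V} {E : Subgroup ((centralizer ({z} : Set G)) ⧸ Q)} {D : AddSubgroup V}
  {A : Subgroup G} {Ab : Subgroup ((centralizer ({z} : Set G)) ⧸ Q)}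

/-- Pairs of points give the elements not conjugate to the central involution, equivariantly. -/
structure Lab (z : G) (A : Subgroup G) (f : GolayPt → G)
    (ψ : ↥(Subgroup.normalizer (A : Set G)) →* Equiv.Perm GolayPt) : Prop where
  mem : ∀ x, f x ∈ A
  sq : ∀ x ∈ A, x * x = 1
  comm : ∀ x ∈ A, ∀ y ∈ A, x * y = y * x
  pair : ∀ a b, a ≠ b → f a * f b ∈ Ns z A
  cover : ∀ x ∈ Ns z A, ∃ a b, a ≠ b ∧ f a * f b = x
  inj : ∀ a b a' b', a ≠ b → f a * f b = f a' * f b' → (a = a' ∧ b = b') ∨ (a = b' ∧ b = a')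
  quad : ∀ a b c d, a ≠ b → c ≠ d → a ≠ c → a ≠ d → b ≠ c → b ≠ d →
    f a * f b * (f c * f d) ∉ Ns z A ∧ f a * f b * (f c * f d) ≠ 1
  ker : ψ.ker = A.subgroupOf (Subgroup.normalizer (A : Set G))
  range : ψ.range = Cfsg.M24
  equiv : ∀ (m : ↥(Subgroup.normalizer (A : Set G))) (a b : GolayPt),
    (m : G) * (f a * f b) * (m : G)⁻¹ = f (ψ m a) * f (ψ m b)

/-- Relabelling the points keeps a labelling a labelling. -/
theorem pairing_congr {B : Type*} [CommGroup B] [Finite B] {Ω Ω' : Type*} [Fintype Ω] [DecidableEq Ω]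
    [Fintype Ω'] [DecidableEq Ω'] {N : Set B} {f : Ω → B} (h : Pairing N f) (e : Ω ≃ Ω') :
    Pairing N (fun x => f (e.symm x)) := by
  refine ⟨h.sq, h.cardB, by rw [← Fintype.card_congr e, h.cardPts], h.count, h.degree, h.one_notMem,
    fun a b hab => h.pair _ _ fun r => hab (e.symm.injective r), fun x hx => ?_⟩
  obtain ⟨a, b, hab, r⟩ := h.cover x hx
  exact ⟨e a, e b, fun r' => hab (e.injective r'), by simp [r]⟩

/-- Any labelling by 24 points carried over to the points of the Golay code. -/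
theorem exists_lab_of (c : Ctx Q q π n M φ s E D A Ab) (f₀ : Fin 6 × Fin 4 → G) (hfA : ∀ x, f₀ x ∈ A)
    (hpair : ∀ a b, a ≠ b → f₀ a * f₀ b ∈ Ns z A)
    (hcover : ∀ x ∈ Ns z A, ∃ a b, a ≠ b ∧ f₀ a * f₀ b = x) :
    ∃ (e : Fin 6 × Fin 4 ≃ GolayPt) (ψ : ↥(Subgroup.normalizer (A : Set G)) →* Equiv.Perm GolayPt),
      Lab z A (fun x => f₀ (e.symm x)) ψ := by
  classical
  set N := Subgroup.normalizer (A : Set G) with hN
  set B := A.subgroupOf N with hBdef
  have hAN : A ≤ N := Subgroup.le_normalizer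
  haveI hnormal : B.Normal := Subgroup.normal_subgroupOf_of_le_normalizer le_rfl
  letI : CommGroup ↥B :=
    { (inferInstance : Group ↥B) with
      mul_comm := fun a b => Subtype.ext (Subtype.ext (c.comm a.2 b.2)) }
  let N₀ : Set ↥B := {x | ((x : ↥N) : G) ∈ Ns z A}
  let emb : ↥B → G := fun x => ((x : ↥N) : G)
  have hemb : Function.Injective emb := fun x y e => Subtype.ext (Subtype.ext e)
  have himg : ∀ S : Set G, S ⊆ (A : Set G) → (emb ⁻¹' S).ncard = S.ncard := fun S hS => by
    refine Set.ncard_preimage_of_injective_subset_range hemb fun x hx => ?_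
    exact ⟨⟨⟨x, hAN (hS hx)⟩, hS hx⟩, rfl⟩
  have hP₀ : Pairing N₀ (fun x => (⟨⟨f₀ x, hAN (hfA x)⟩, hfA x⟩ : ↥B)) := by
    refine ⟨fun x => hemb (c.sq x.2), ?_, by simp, ?_, fun d hd => ?_, fun h => h.2.1 rfl,
      fun a b hab => hpair a b hab, fun x hx => ?_⟩
    · rw [hBdef, Nat.card_congr (subgroupOfEquivOfLe hAN).toEquiv, c.card]
    · rw [show N₀ = emb ⁻¹' Ns z A from rfl, himg _ fun x hx => hx.1, c.Ns_counts.1]
    · rw [show {e | e ∈ N₀ ∧ d * e ∈ N₀} = emb ⁻¹' nb z A (emb d) from rfl, himg _ fun x hx => hx.1.1,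
        c.degree hd]
    · obtain ⟨a, b, hab, e⟩ := hcover _ hx
      exact ⟨a, b, hab, hemb e⟩
  obtain ⟨e, he⟩ := CfsgLib.Golay.iso_octads hP₀.cardPts hP₀.steiner
  set g₀ : GolayPt → ↥B := fun x => ⟨⟨f₀ (e.symm x), hAN (hfA _)⟩, hfA _⟩ with hg₀
  have hP : Pairing N₀ g₀ := pairing_congr hP₀ e
  let ρ : ↥N →* MulAut ↥B := MulAut.conjNormal
  have hρ : ∀ m x, x ∈ N₀ → ρ m x ∈ N₀ := fun m x hx => by
    have := c.Ns_conj m.2 hx
    simpa [ρ, N₀, MulAut.conjNormal_apply] using this
  have hiff : ∀ m x, ρ m x ∈ N₀ ↔ x ∈ N₀ := fun m x => ⟨fun hx => by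
    have := hρ m⁻¹ _ hx
    rwa [map_inv, MulAut.inv_apply_self] at this, hρ m x⟩
  choose g hg using fun m => hP.exists_perm (ρ m) (hiff m)
  let ψ : ↥N →* Equiv.Perm GolayPt := MonoidHom.mk' g fun m m' => hP.perm_unique fun a b => by
    show g₀ (g (m * m') a) * g₀ (g (m * m') b) = g₀ (g m (g m' a)) * g₀ (g m (g m' b))
    rw [← hg (m * m'), ← hg m, ← hg m', ρ.map_mul, MulAut.mul_apply]
  have hequiv : ∀ (m : ↥N) (a b : GolayPt),
      (m : G) * (f₀ (e.symm a) * f₀ (e.symm b)) * (m : G)⁻¹ = f₀ (e.symm (ψ m a)) * f₀ (e.symm (ψ m b)) := by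
    intro m a b
    show _ = f₀ (e.symm (g m a)) * f₀ (e.symm (g m b))
    have := congrArg emb (hg m a b)
    simpa [ρ, emb, g₀, MulAut.conjNormal_apply] using this
  have hker : ψ.ker = B := by
    ext m
    rw [MonoidHom.mem_ker]
    constructor
    · intro hm
      refine c.cent fun a ha => ?_
      obtain ⟨t, ht, -, ht'⟩ := hP.exhaust.1 (⟨⟨a, hAN ha⟩, ha⟩ : ↥B)
      have h1 : ρ m (t.prod g₀) = t.prod g₀ := by
        rw [← hP.prod_image_perm (hg m) ht, show g m = ψ m from rfl, hm]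
        simp
      rw [ht'] at h1
      have := congrArg emb h1
      simp only [ρ, emb, MulAut.conjNormal_apply, Subgroup.coe_mul, InvMemClass.coe_inv] at this
      exact mul_inv_eq_iff_eq_mul.1 this
    · intro hm
      refine hP.perm_unique fun a b => hemb ?_
      have := hequiv m a b
      rw [show (m : G) * (f₀ (e.symm a) * f₀ (e.symm b)) = f₀ (e.symm a) * f₀ (e.symm b) * (m : G) from
        c.comm (show (m : G) ∈ A from hm) (mul_mem (hfA _) (hfA _)), mul_inv_cancel_right] at this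
      exact this.symm
  have hrange : ψ.range ≤ Cfsg.M24 := by
    rintro _ ⟨m, rfl⟩
    refine CfsgLib.Golay.smul_octads_mem_M24 _ fun o ho _ => ?_
    rw [← he] at ho ⊢
    obtain ⟨b, ⟨hb8, hb1⟩, rfl⟩ := ho
    have hbe : (b.image e).prod g₀ = 1 := by
      rw [Finset.prod_image fun x _ y _ r => e.injective r, ← hb1]
      exact Finset.prod_congr rfl fun x _ => by simp [g₀]
    have h8 : (b.image e).card = 8 := by rw [Finset.card_image_of_injective _ e.injective, hb8]
    refine ⟨((b.image e).image (ψ m)).image e.symm, ⟨?_, ?_⟩, ?_⟩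
    · rw [Finset.card_image_of_injective _ e.symm.injective, Finset.card_image_of_injective _ (ψ m).injective, h8]
    · rw [Finset.prod_image fun x _ y _ r => e.symm.injective r]
      show ((b.image e).image (ψ m)).prod g₀ = 1
      rw [show ψ m = g m from rfl, hP.prod_image_perm (hg m) (by rw [h8]; norm_num), hbe, map_one]
    · show ((((b.image e).image (ψ m)).image e.symm).image e) = ψ m • b.image e
      rw [Finset.image_image, Equiv.self_comp_symm, Finset.image_id, Finset.smul_finset_def]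
      rfl
  refine ⟨e, ψ, fun x => hfA _, fun x hx => c.sq hx, fun x hx y hy => c.comm hx hy,
    fun a b hab => hP.pair a b hab, fun x hx => ?_, fun a b a' b' hab r => ?_, fun a b u v hab huv hau hav hbu hbv => ?_,
    hker, eq_of_le_of_card_ge hrange ?_, hequiv⟩
  · obtain ⟨a, b, hab, r⟩ := hP.cover (⟨⟨x, hAN hx.1⟩, hx.1⟩ : ↥B) hx
    exact ⟨a, b, hab, congrArg emb r⟩
  · have r' : g₀ a * g₀ b = g₀ a' * g₀ b' := hemb r
    have hab' : a' ≠ b' := fun q' => hP.one_notMem (by
      have := hP.pair a b hab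
      rwa [r', q', hP.sq] at this)
    have h2 := hP.prod_inj (Finset.card_pair hab) (Finset.card_pair hab')
      (by rw [Finset.prod_pair hab, Finset.prod_pair hab', r'])
    have h3 : ({a, b} : Set GolayPt) = {a', b'} := by
      ext y
      simpa using Finset.ext_iff.1 h2 y
    exact Set.pair_eq_pair_iff.1 h3
  · have hd : Disjoint ({a, b} : Finset GolayPt) {u, v} := by
      simp only [Finset.disjoint_left, Finset.mem_insert, Finset.mem_singleton]
      rintro x (rfl | rfl) (rfl | rfl) <;> contradiction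
    have hne : ({a, b} : Finset GolayPt) ≠ {u, v} := fun r => by
      rw [r, disjoint_self] at hd
      simp at hd
    have h1 : g₀ a * g₀ b * (g₀ u * g₀ v) ∉ N₀ := by
      rw [← Finset.prod_pair hab, ← Finset.prod_pair huv]
      exact fun h => ((hP.adj_iff (Finset.card_pair hab) (Finset.card_pair huv) hne).1 h) hd
    refine ⟨h1, fun r => hne (hP.prod_inj (Finset.card_pair hab) (Finset.card_pair huv) ?_)⟩
    rw [Finset.prod_pair hab, Finset.prod_pair huv]
    have r' : g₀ a * g₀ b * (g₀ u * g₀ v) = 1 := hemb r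
    rw [← mul_one (g₀ a * g₀ b), ← hP.sq (g₀ u * g₀ v), ← mul_assoc, r', one_mul]
  · have h := ψ.ker.card_mul_index
    rw [Subgroup.index_ker, hker, hBdef, Nat.card_congr (subgroupOfEquivOfLe hAN).toEquiv, c.card,
      show Nat.card ↥N = _ from c.orbit_stab.symm, c.Zs_facts.1] at h
    rw [CfsgLib.Golay.card_M24]
    omega

/-- The labelling by the points of the Golay code. -/
theorem exists_lab (c : Ctx Q q π n M φ s E D A Ab) :
    ∃ (f : GolayPt → G) (ψ : ↥(Subgroup.normalizer (A : Set G)) →* Equiv.Perm GolayPt), Lab z A f ψ := by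
  obtain ⟨f₀, hfA, hpair, hcover⟩ := c.exists_labelling
  obtain ⟨e, ψ, h⟩ := exists_lab_of c f₀ hfA hpair hcover
  exact ⟨_, ψ, h⟩

namespace Lab

variable {f : GolayPt → G} {ψ : ↥(Subgroup.normalizer (A : Set G)) →* Equiv.Perm GolayPt} (L : Lab z A f ψ)
include L

theorem inv {x : G} (hx : x ∈ A) : x⁻¹ = x := inv_eq_of_mul_eq_one_right (L.sq x hx)

theorem swap (a b : GolayPt) : f a * f b = f b * f a := L.comm _ (L.mem a) _ (L.mem b)

/-- Two pairs with a common point. -/
theorem mul_share (a b d : GolayPt) : f a * f b * (f b * f d) = f a * f d := by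
  rw [mul_assoc (f a), ← mul_assoc (f b) (f b), L.sq _ (L.mem b), one_mul]

/-- Two different elements whose product is of their kind share a point. -/
theorem adj {a b : GolayPt} (hab : a ≠ b) {y : G} (hy : y ∈ Ns z A) (h : f a * f b * y ∈ Ns z A) :
    ∃ x, x ≠ a ∧ x ≠ b ∧ (y = f a * f x ∨ y = f b * f x) := by
  obtain ⟨p, r, hpr, rfl⟩ := L.cover y hy
  by_cases h1 : p = a
  · subst h1
    refine ⟨r, hpr.symm, fun e => ?_, Or.inl rfl⟩
    subst e
    exact h.2.1 (L.sq _ (mul_mem (L.mem p) (L.mem r)))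
  by_cases h2 : p = b
  · subst h2
    refine ⟨r, fun e => ?_, hpr.symm, Or.inr rfl⟩
    subst e
    exact h.2.1 (by rw [L.mul_share, L.sq _ (L.mem r)])
  by_cases h3 : r = a
  · subst h3
    exact ⟨p, h1, h2, Or.inl (L.swap p r)⟩
  by_cases h4 : r = b
  · subst h4
    exact ⟨p, h1, h2, Or.inr (L.swap p r)⟩
  exact absurd h (L.quad a b p r hab hpr (Ne.symm h1) (Ne.symm h3) (Ne.symm h2) (Ne.symm h4)).1

/-- A sum of two disjoint pairs is conjugate to the central involution. -/
theorem quad_conj {a b c d : GolayPt} (hab : a ≠ b) (hcd : c ≠ d) (hac : a ≠ c) (had : a ≠ d) (hbc : b ≠ c)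
    (hbd : b ≠ d) : IsConj z (f a * f b * (f c * f d)) := by
  obtain ⟨h1, h2⟩ := L.quad a b c d hab hcd hac had hbc hbd
  by_contra h
  exact h1 ⟨mul_mem (mul_mem (L.mem a) (L.mem b)) (mul_mem (L.mem c) (L.mem d)), h2, h⟩

end Lab

end CfsgLib.LargeFischer.Inner
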