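import Mathlib

/-!
# Transfer to a group of order two at an involution, and parities of invariant sets
-/

set_option autoImplicit false

namespace CfsgLib.LargeFischer.Inner

open MulAction

theorem mz2_cases : ∀ a : Multiplicative (ZMod 2), a = 1 ∨ a = Multiplicative.ofAdd 1 := by decide

theorem mz2_eq_of_ne : ∀ a b : Multiplicative (ZMod 2), a ≠ 1 → b ≠ 1 → a = b := by decide

theorem mz2_one_ne : Multiplicative.ofAdd (1 : ZMod 2) ≠ 1 := by decide

theorem mz2_sq : ∀ a : Multiplicative (ZMod 2), a * a = 1 := by decide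

theorem mz2_ne_mul : ∀ a b : Multiplicative (ZMod 2), a ≠ 1 → b ≠ 1 → a * b = 1 := by decide

theorem mz2_mul_ne : ∀ a b : Multiplicative (ZMod 2), a = 1 → b ≠ 1 → a * b ≠ 1 := by decide

theorem mz2_pow_ne_one (k : ℕ) : Multiplicative.ofAdd (1 : ZMod 2) ^ k ≠ 1 ↔ Odd k := by
  constructor
  · intro h
    by_contra hk
    obtain ⟨j, rfl⟩ := Nat.not_odd_iff_even.1 hk
    exact h (by rw [← two_mul, pow_mul, pow_two, mz2_sq, one_pow])
  · rintro ⟨j, rfl⟩
    rw [pow_succ, pow_mul, pow_two, mz2_sq, one_pow, one_mul]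
    exact mz2_one_ne

/-- An invariant set has the parity of its fixed points. -/
theorem parity_fixed {P X : Type*} [Group P] [Finite P] [Finite X] [MulAction P X] (hP : IsPGroup 2 P) (S : Set X)
    (hS : ∀ (p : P) (x : X), x ∈ S → p • x ∈ S) :
    Odd S.ncard ↔ Odd (S ∩ {x | ∀ p : P, p • x = x}).ncard := by
  haveI := Fact.mk Nat.prime_two
  letI : MulAction P ↥S :=
    { smul := fun p x => ⟨p • (x : X), hS p x x.2⟩
      one_smul := fun x => Subtype.ext (one_smul P (x : X))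
      mul_smul := fun p r x => Subtype.ext (mul_smul p r (x : X)) }
  have h := hP.card_modEq_card_fixedPoints ↥S
  have h2 : Nat.card ↥(fixedPoints P ↥S) = (S ∩ {x | ∀ p : P, p • x = x}).ncard := by
    rw [← Nat.card_coe_set_eq]
    exact Nat.card_congr
      { toFun := fun x => ⟨((x : ↥S) : X), (x : ↥S).2, fun p => congrArg Subtype.val (x.2 p)⟩
        invFun := fun x => ⟨⟨x, x.2.1⟩, fun p => Subtype.ext (x.2.2 p)⟩
        left_inv := fun x => rfl
        right_inv := fun x => rfl }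
  rw [h2, Nat.card_coe_set_eq] at h
  rw [Nat.odd_iff, Nat.odd_iff, h]

/-- A set with a fixed-point-free involution has even cardinality. -/
theorem even_of_involution {X : Type*} [Finite X] (S : Set X) (σ : X → X) (hmaps : ∀ x ∈ S, σ x ∈ S)
    (hinv : ∀ x ∈ S, σ (σ x) = x) (hfree : ∀ x ∈ S, σ x ≠ x) : Even S.ncard := by
  classical
  haveI := Fintype.ofFinite X
  have h : (∑ _x ∈ S.toFinset, (1 : ZMod 2)) = 0 := by
    refine Finset.sum_involution (fun x _ => σ x) (fun _ _ => by decide)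
      (fun x hx _ => hfree x (Set.mem_toFinset.1 hx)) (fun x hx => Set.mem_toFinset.2 (hmaps x (Set.mem_toFinset.1 hx)))
      fun x hx => hinv x (Set.mem_toFinset.1 hx)
  rw [Finset.sum_const, nsmul_one, ZMod.natCast_eq_zero_iff_even] at h
  rwa [Set.ncard_eq_toFinset_card']

variable {G : Type*} [Group G] {H : Subgroup G} (ϕ : ↥H →* Multiplicative (ZMod 2))

/-- The cosets fixed by an element at which its conjugate is sent to the nontrivial element. -/
def Hot (g : G) : Set (G ⧸ H) :=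
  {x | ∃ r : G, (r : G ⧸ H) = x ∧ ∃ h : r⁻¹ * g * r ∈ H, ϕ ⟨r⁻¹ * g * r, h⟩ ≠ 1}

theorem mem_hot {g : G} (r : G) :
    (r : G ⧸ H) ∈ Hot ϕ g ↔ ∃ h : r⁻¹ * g * r ∈ H, ϕ ⟨r⁻¹ * g * r, h⟩ ≠ 1 := by
  refine ⟨?_, fun h => ⟨r, rfl, h⟩⟩
  rintro ⟨r', hr', h', hne⟩
  have hl : r'⁻¹ * r ∈ H := QuotientGroup.eq.1 hr'
  have e : r⁻¹ * g * r = (r'⁻¹ * r)⁻¹ * (r'⁻¹ * g * r') * (r'⁻¹ * r) := by group
  have h : r⁻¹ * g * r ∈ H := e ▸ mul_mem (mul_mem (inv_mem hl) h') hl
  refine ⟨h, ?_⟩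
  rw [show (⟨r⁻¹ * g * r, h⟩ : ↥H) = ⟨r'⁻¹ * r, hl⟩⁻¹ * ⟨r'⁻¹ * g * r', h'⟩ * ⟨r'⁻¹ * r, hl⟩ from Subtype.ext e,
    map_mul, map_mul, map_inv, mul_comm _ (ϕ ⟨r'⁻¹ * g * r', h'⟩), inv_mul_cancel_right]
  exact hne

theorem hot_fixed {g : G} {x : G ⧸ H} (hx : x ∈ Hot ϕ g) : g • x = x := by
  obtain ⟨r, rfl, h, -⟩ := hx
  refine QuotientGroup.eq.2 ?_
  have := inv_mem h
  simpa [mul_assoc] using this

theorem hot_smul {g k : G} (hk : k * g = g * k) {x : G ⧸ H} (hx : x ∈ Hot ϕ g) : k • x ∈ Hot ϕ g := by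
  obtain ⟨r, rfl, h, hne⟩ := hx
  have e : (k * r)⁻¹ * g * (k * r) = r⁻¹ * g * r := by
    calc (k * r)⁻¹ * g * (k * r) = r⁻¹ * k⁻¹ * (g * k) * r := by group
      _ = r⁻¹ * g * r := by rw [← hk]; group
  refine ⟨k * r, rfl, e ▸ h, ?_⟩
  rw [show (⟨(k * r)⁻¹ * g * (k * r), e ▸ h⟩ : ↥H) = ⟨r⁻¹ * g * r, h⟩ from Subtype.ext e]
  exact hne

variable [Finite G]

/-- The transfer at an involution is the parity of the hot cosets. -/
theorem transfer_involution {g : G} (hg : g * g = 1) :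
    MonoidHom.transfer ϕ g ≠ 1 ↔ Odd (Hot ϕ g).ncard := by
  classical
  haveI := Fintype.ofFinite (G ⧸ H)
  haveI : Fintype (Quotient (orbitRel ↥(Subgroup.zpowers g) (G ⧸ H))) := Fintype.ofFinite _
  rw [MonoidHom.transfer_eq_prod_quotient_orbitRel_zpowers_quot]
  have hval : ∀ (x : G ⧸ H) (h : x.out⁻¹ * g ^ Function.minimalPeriod (g • ·) x * x.out ∈ H),
      ϕ ⟨_, h⟩ = if x ∈ Hot ϕ g then Multiplicative.ofAdd 1 else 1 := by
    intro x h
    by_cases hfix : g • x = x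
    · have hp : Function.minimalPeriod (g • ·) x = 1 := Function.minimalPeriod_eq_one_iff_isFixedPt.2 hfix
      have h' : x.out⁻¹ * g * x.out ∈ H := by rw [hp, pow_one] at h; exact h
      rw [show (⟨_, h⟩ : ↥H) = ⟨_, h'⟩ from Subtype.ext (by simp [hp])]
      have hm := mem_hot ϕ (g := g) x.out
      rw [QuotientGroup.out_eq'] at hm
      split_ifs with hx
      · exact mz2_eq_of_ne _ _ (hm.1 hx).2 mz2_one_ne
      · by_contra hne
        exact hx (hm.2 ⟨h', hne⟩)
    · rw [if_neg fun hx => hfix (hot_fixed ϕ hx)]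
      have h2 : Function.IsPeriodicPt (g • ·) 2 x := by
        show g • g • x = x
        rw [smul_smul, hg, one_smul]
      have hp : Function.minimalPeriod (g • ·) x = 2 :=
        (Nat.prime_two.eq_one_or_self_of_dvd _ h2.minimalPeriod_dvd).resolve_left fun e =>
          hfix (Function.minimalPeriod_eq_one_iff_isFixedPt.1 e)
      rw [show (⟨_, h⟩ : ↥H) = 1 from Subtype.ext (by simp [hp, pow_two, hg]), map_one]
  rw [Finset.prod_congr rfl fun (o : Quotient (orbitRel ↥(Subgroup.zpowers g) (G ⧸ H))) _ => hval o.out _]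
  rw [Finset.prod_ite, Finset.prod_const, Finset.prod_const_one, mul_one, mz2_pow_ne_one]
  refine iff_of_eq (congrArg Odd ?_)
  rw [Set.ncard_eq_toFinset_card']
  refine Finset.card_bij (fun o _ => o.out) (fun o ho => Set.mem_toFinset.2 (Finset.mem_filter.1 ho).2)
    (fun a _ b _ e => Quotient.out_injective e) fun x hx => ?_
  have hx' := Set.mem_toFinset.1 hx
  refine ⟨Quotient.mk'' x, ?_, ?_⟩
  all_goals
    have e : (Quotient.mk'' x : Quotient (orbitRel ↥(Subgroup.zpowers g) (G ⧸ H))).out = x := by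
      have h1 : (Quotient.mk'' x : Quotient (orbitRel ↥(Subgroup.zpowers g) (G ⧸ H))).out ∈ orbit ↥(Subgroup.zpowers g) x :=
        Quotient.mk_out (s := orbitRel ↥(Subgroup.zpowers g) (G ⧸ H)) x
      obtain ⟨⟨k, hk⟩, hkx⟩ := h1
      rw [← hkx]
      obtain ⟨i, rfl⟩ := Subgroup.mem_zpowers_iff.1 hk
      have hz : ∀ i : ℤ, g ^ i • x = x := by
        intro i
        have : g ∈ MulAction.stabilizer G x := hot_fixed ϕ hx'
        exact zpow_mem this i
      exact hz i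
  · exact Finset.mem_filter.2 ⟨Finset.mem_univ _, e.symm ▸ hx'⟩
  · exact e

end CfsgLib.LargeFischer.Inner
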