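import Cfsg.Agent.Lib.LargeFischer.Inner.Local
import Cfsg.Agent.Lib.LargeFischer.Inner.Transfer

/-!
# A homomorphism of the centraliser of a pair element onto a group of order two
-/

set_option autoImplicit false
set_option linter.unusedSectionVars false
set_option linter.style.haveILetI false
set_option maxHeartbeats 1000000

namespace CfsgLib.LargeFischer.Inner

open Subgroup QuadraticMap CfsgLib.LargeFischer.Thompson
open Cfsg (GolayPt)
open CfsgLib.Schur.Tails.UFour (H4)
open scoped Pointwise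
open Cfg (Lt lt_comm chi side)

variable {G : Type*} [Group G] [Finite G] {z : G}
  {Q : Subgroup (centralizer ({z} : Set G))} [Q.Normal] {V : Type*} [AddCommGroup V] [Module (ZMod 2) V]
  [DistribMulAction ((centralizer ({z} : Set G)) ⧸ Q) V] [Finite V] {q : QuadraticForm (ZMod 2) V} {π : ↥Q → V}
  {n : (centralizer ({z} : Set G)) ⧸ Q} {M : Subgroup ((centralizer ({z} : Set G)) ⧸ Q)} {φ : ↥M →* ↥H4}
  {s : V} {E : Subgroup ((centralizer ({z} : Set G)) ⧸ Q)} {D : AddSubgroup V}
  {A : Subgroup G} {Ab : Subgroup ((centralizer ({z} : Set G)) ⧸ Q)}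

/-- The conjugate of `z` of a coset. -/
noncomputable def wz {t : G} (x : ↥(centralizer ({t} : Set G)) ⧸ Lt z t) : G :=
  (x.out : G) * z * (x.out : G)⁻¹

theorem wz_mk {t : G} (r : ↥(centralizer ({t} : Set G))) :
    wz (z := z) (r : ↥(centralizer ({t} : Set G)) ⧸ Lt z t) = (r : G) * z * (r : G)⁻¹ := by
  obtain ⟨l, hl⟩ := QuotientGroup.mk_out_eq_mul (Lt z t) r
  show _ = (r : G) * z * (r : G)⁻¹
  rw [wz, hl, Subgroup.coe_mul]
  calc _ = (r : G) * (((l : ↥(centralizer ({t} : Set G))) : G) * z *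
        ((l : ↥(centralizer ({t} : Set G))) : G)⁻¹) * (r : G)⁻¹ := by group
    _ = _ := by rw [(lt_comm l).1, mul_inv_cancel_right]

theorem wz_inj {t : G} {x y : ↥(centralizer ({t} : Set G)) ⧸ Lt z t} (h : wz x = wz y) : x = y := by
  obtain ⟨r, rfl⟩ := QuotientGroup.mk_surjective x
  obtain ⟨r', rfl⟩ := QuotientGroup.mk_surjective y
  rw [wz_mk, wz_mk] at h
  refine QuotientGroup.eq.2 (mem_centralizer_singleton_iff.2 ?_)
  show ((r : G)⁻¹ * (r' : G)) * z = z * ((r : G)⁻¹ * (r' : G))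
  calc ((r : G)⁻¹ * (r' : G)) * z = (r : G)⁻¹ * ((r' : G) * z * (r' : G)⁻¹) * r' := by group
    _ = _ := by rw [← h]; group

theorem wz_smul {t : G} (k : ↥(centralizer ({t} : Set G))) (x : ↥(centralizer ({t} : Set G)) ⧸ Lt z t) :
    wz (k • x) = (k : G) * wz x * (k : G)⁻¹ := by
  obtain ⟨r, rfl⟩ := QuotientGroup.mk_surjective x
  rw [MulAction.Quotient.smul_mk, wz_mk, wz_mk]
  show (k : G) * (r : G) * z * ((k : G) * (r : G))⁻¹ = _
  group

theorem smul_iff {t : G} (k : ↥(centralizer ({t} : Set G))) (x : ↥(centralizer ({t} : Set G)) ⧸ Lt z t) :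
    k • x = x ↔ (k : G) * wz x = wz x * (k : G) := by
  rw [← mul_inv_eq_iff_eq_mul]
  exact ⟨fun h => by rw [← wz_smul, h], fun h => wz_inj (by rw [wz_smul, h])⟩

namespace Cfg

variable {f : GolayPt → G} {ψ : ↥(Subgroup.normalizer (A : Set G)) →* Equiv.Perm GolayPt}
  {a b u v : GolayPt} {tq uq : ↥Q} (d : Cfg Q q π n M φ s E D A Ab f ψ a b u v tq uq)
include d

theorem fix_pair (m : ↥(Subgroup.normalizer (A : Set G))) (hm : (m : G) * val tq = val tq * (m : G)) :
    (ψ m a = a ∧ ψ m b = b) ∨ (ψ m a = b ∧ ψ m b = a) := by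
  have h := d.lab.equiv m a b
  rw [← d.ht, hm, mul_inv_cancel_right, d.ht] at h
  rcases d.lab.inj _ _ _ _ d.ab h with ⟨h1, h2⟩ | ⟨h1, h2⟩
  · exact Or.inl ⟨h1.symm, h2.symm⟩
  · exact Or.inr ⟨h2.symm, h1.symm⟩

theorem of_pair (m : ↥(Subgroup.normalizer (A : Set G)))
    (h : (ψ m a = a ∧ ψ m b = b) ∨ (ψ m a = b ∧ ψ m b = a)) : (m : G) * val tq = val tq * (m : G) := by
  refine mul_inv_eq_iff_eq_mul.1 ?_
  rw [d.ht, d.lab.equiv m a b]
  rcases h with ⟨h1, h2⟩ | ⟨h1, h2⟩ <;> rw [h1, h2]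
  exact d.lab.swap b a

/-- The character on the normaliser of the elementary group. -/
theorem side_iff (m : ↥(Subgroup.normalizer (A : Set G))) (hz : (m : G) * z = z * (m : G))
    (ht : (m : G) * val tq = val tq * (m : G)) : side (tq := tq) (uq := uq) (m : G) ↔ ψ m a = a := by
  have h := d.lab.equiv m u v
  rw [← d.zt, show (m : G) * (z * val tq) * (m : G)⁻¹ = z * val tq by
    rw [← mul_assoc, hz, mul_assoc z, ht, ← mul_assoc z, mul_inv_cancel_right], d.zt] at h
  have hu : (m : G) * val uq * (m : G)⁻¹ = f (ψ m b) * f (ψ m u) := by rw [d.hu]; exact d.lab.equiv m b u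
  have huv := d.lab.inj _ _ _ _ d.uv h
  have hb : f b * f u = val uq := d.hu.symm
  have hbv : f b * f v = val uq * (val tq * z) := d.utz.symm
  unfold side
  rw [hu]
  rcases d.fix_pair m ht with ⟨h1, h2⟩ | ⟨h1, h2⟩ <;> rcases huv with ⟨h3, -⟩ | ⟨-, h4⟩
  · simp only [h1, h2, ← h3, hb, true_or]
  · simp only [h1, h2, ← h4, hbv, or_true]
  · simp only [h1, h2, ← h3, ← d.ut, d.ab.symm, iff_false, not_or]
    exact d.ut_ne
  · simp only [h1, h2, ← h4, ← d.uz, d.ab.symm, iff_false, not_or]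
    exact d.uz_ne

theorem sq_comm {e : G} (he : e ∈ A) : e * val tq = val tq * e := d.ctx.comm he d.t_mem

/-- An element of the elementary group in the centraliser. -/
def elt {e : G} (he : e ∈ A) : ↥(centralizer ({val tq} : Set G)) :=
  ⟨e, mem_centralizer_singleton_iff.2 (d.sq_comm he)⟩

theorem exists_normal {g : Equiv.Perm GolayPt} (hg : g ∈ Cfsg.M24)
    (h : (g a = a ∧ g b = b) ∨ (g a = b ∧ g b = a)) :
    ∃ m : ↥(Subgroup.normalizer (A : Set G)), ψ m = g ∧ (m : G) * val tq = val tq * (m : G) := by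
  obtain ⟨m, hm⟩ : g ∈ ψ.range := d.lab.range ▸ hg
  exact ⟨m, hm, d.of_pair m (by rw [hm]; exact h)⟩

/-- A conjugate of `z` in the elementary group. -/
theorem wz_mem {x : ↥(centralizer ({val tq} : Set G)) ⧸ Lt z (val tq)} (hx : wz x ∈ A) :
    ∃ p r, p ≠ r ∧ p ≠ a ∧ p ≠ b ∧ r ≠ a ∧ r ≠ b ∧ wz x * val tq = f p * f r := by
  set o : G := (x.out : G) with ho
  have hot : o * val tq = val tq * o := mem_centralizer_singleton_iff.1 x.out.2
  have e : wz x * val tq = o * (f u * f v) * o⁻¹ := by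
    rw [← d.zt]
    calc wz x * val tq = o * z * o⁻¹ * (o * val tq * o⁻¹) := by rw [hot, mul_inv_cancel_right]; rfl
      _ = _ := by group
  have hN : wz x * val tq ∈ Ns z A := by
    obtain ⟨-, h1, h2⟩ := d.lab.pair u v d.uv
    refine ⟨mul_mem hx d.t_mem, fun r => h1 ?_, fun r => h2 ?_⟩
    · exact conj_eq_one_iff.1 (e.symm.trans r)
    · exact r.trans (isConj_iff.2 ⟨o⁻¹, by rw [e]; group⟩)
  have hconj : IsConj z (wz x) := isConj_iff.2 ⟨o, rfl⟩
  obtain ⟨p, r, hpr, hp⟩ := d.lab.cover _ hN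
  have hw : wz x = f a * f b * (f p * f r) := by
    rw [hp, ← d.ht, d.ctx.comm d.t_mem (mul_mem hx d.t_mem), mul_assoc, d.tt, mul_one]
  have h1 : ∀ k j, f a * f b * (f k * f j) = wz x → k ≠ j → k ≠ a ∧ k ≠ b := by
    intro k j hk hkj
    refine ⟨fun r' => ?_, fun r' => ?_⟩
    · rw [r', d.lab.swap a b, d.lab.mul_share] at hk
      by_cases hbj : b = j
      · rw [← hbj, d.lab.sq _ (d.lab.mem b)] at hk
        exact d.ctx.not_isConj_one (hk ▸ hconj)
      · exact (d.lab.pair b j hbj).2.2 (hk ▸ hconj)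
    · rw [r', d.lab.mul_share] at hk
      by_cases haj : a = j
      · rw [← haj, d.lab.sq _ (d.lab.mem a)] at hk
        exact d.ctx.not_isConj_one (hk ▸ hconj)
      · exact (d.lab.pair a j haj).2.2 (hk ▸ hconj)
  obtain ⟨h2, h3⟩ := h1 p r hw.symm hpr
  obtain ⟨h4, h5⟩ := h1 r p (by rw [d.lab.swap r p]; exact hw.symm) hpr.symm
  exact ⟨p, r, hpr, h2, h3, h4, h5, hp.symm⟩

theorem exists_rep {p r : GolayPt} (hpr : p ≠ r) (hpa : p ≠ a) (hpb : p ≠ b) (hra : r ≠ a) (hrb : r ≠ b) :
    ∃ m : ↥(Subgroup.normalizer (A : Set G)), (m : G) * val tq = val tq * (m : G) ∧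
      (m : G) * z * (m : G)⁻¹ = val tq * (f p * f r) := by
  obtain ⟨g, hg, h1, h2, h3, h4⟩ := CfsgLib.Golay.M24_map_four d.ab d.au d.av d.bu d.bv d.uv d.ab hpa.symm hra.symm
    hpb.symm hrb.symm hpr
  obtain ⟨m, hm, hmt⟩ := d.exists_normal hg (Or.inl ⟨h1, h2⟩)
  refine ⟨m, hmt, ?_⟩
  calc (m : G) * z * (m : G)⁻¹
      = (m : G) * (f a * f b) * (m : G)⁻¹ * ((m : G) * (f u * f v) * (m : G)⁻¹) := by
        rw [show (m : G) * z * (m : G)⁻¹ = (m : G) * (f a * f b * (f u * f v)) * (m : G)⁻¹ by rw [d.hz]]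
        group
    _ = _ := by rw [d.lab.equiv, d.lab.equiv, hm, h1, h2, h3, h4, d.ht]

/-- There are 231 conjugates of `z` under the centraliser in the elementary group. -/
theorem odd_inA : Odd ({x : ↥(centralizer ({val tq} : Set G)) ⧸ Lt z (val tq) | wz x ∈ A}).ncard := by
  classical
  set α := {p : GolayPt // p ≠ a ∧ p ≠ b}
  set U : Set (↥(centralizer ({val tq} : Set G)) ⧸ Lt z (val tq)) := {x | wz x ∈ A}
  have hex : ∀ p : {w : Sym2 α // ¬ w.IsDiag}, ∃ x : ↥U, Sym2.lift ⟨fun k j : α => f k.1 * f j.1,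
      fun k j => d.lab.swap k.1 j.1⟩ p.1 = wz x.1 * val tq := by
    rintro ⟨w, hw⟩
    induction w using Sym2.inductionOn with
    | hf k j =>
      have hkj : k.1 ≠ j.1 := fun e => hw (Subtype.ext e)
      obtain ⟨m, hmt, hmz⟩ := d.exists_rep hkj k.2.1 k.2.2 j.2.1 j.2.2
      have hA : f k.1 * f j.1 ∈ A := mul_mem (d.lab.mem _) (d.lab.mem _)
      refine ⟨⟨((⟨(m : G), mem_centralizer_singleton_iff.2 hmt⟩ : ↥(centralizer ({val tq} : Set G))) :
        ↥(centralizer ({val tq} : Set G)) ⧸ Lt z (val tq)), ?_⟩, ?_⟩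
      · show wz _ ∈ A
        rw [wz_mk, hmz]
        exact mul_mem d.t_mem hA
      · show f k.1 * f j.1 = _
        rw [wz_mk, hmz, d.ctx.comm d.t_mem hA, mul_assoc, d.tt, mul_one]
  choose F hF using hex
  have hinj : Function.Injective F := by
    rintro ⟨w, hw⟩ ⟨w', hw'⟩ e
    have h := (hF ⟨w, hw⟩).trans ((congrArg (fun x : ↥U => wz x.1 * val tq) e).trans (hF ⟨w', hw'⟩).symm)
    induction w using Sym2.inductionOn with
    | hf k j =>
      induction w' using Sym2.inductionOn with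
      | hf k' j' =>
        refine Subtype.ext (Sym2.eq_iff.2 ?_)
        rcases d.lab.inj _ _ _ _ (fun r => hw (Subtype.ext r)) h with ⟨h1, h2⟩ | ⟨h1, h2⟩
        · exact Or.inl ⟨Subtype.ext h1, Subtype.ext h2⟩
        · exact Or.inr ⟨Subtype.ext h1, Subtype.ext h2⟩
  have hsurj : Function.Surjective F := by
    rintro ⟨x, hx⟩
    obtain ⟨p, r, hpr, hpa, hpb, hra, hrb, e⟩ := d.wz_mem hx
    refine ⟨⟨s(⟨p, hpa, hpb⟩, ⟨r, hra, hrb⟩), fun h => hpr (congrArg Subtype.val (Sym2.mk_isDiag_iff.1 h))⟩,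
      Subtype.ext (wz_inj ?_)⟩
    exact mul_right_cancel ((hF _).symm.trans e.symm)
  have hc : Fintype.card α = 22 := by
    rw [Fintype.card_subtype, show (Finset.univ.filter fun p : GolayPt => p ≠ a ∧ p ≠ b) =
      (Finset.univ.erase a).erase b by ext p; simp [and_comm], Finset.card_erase_of_mem (Finset.mem_erase.2
        ⟨d.ab.symm, Finset.mem_univ _⟩), Finset.card_erase_of_mem (Finset.mem_univ _), Finset.card_univ,
      Fintype.card_congr CfsgLib.Golay.ptEquiv, Fintype.card_fin]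
  have h231 := Nat.card_eq_of_bijective F ⟨hinj, hsurj⟩
  rw [Nat.card_eq_fintype_card, Sym2.card_subtype_not_diag, hc, Nat.card_coe_set_eq] at h231
  rw [← h231]
  decide

variable {x : ↥Q} (hxx : val x * val x = 1) (hxt : val x * val tq = val tq * val x)
  (hxu : val x * val uq * (val x)⁻¹ = val uq * z)
include hxx hxt hxu

/-- The parity of the transfer at the involution of `Q`. -/
theorem odd_hot : Odd (Hot d.chi (⟨val x, mem_centralizer_singleton_iff.2 hxt⟩ :
    ↥(centralizer ({val tq} : Set G)))).ncard := by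
  classical
  set C := centralizer ({val tq} : Set G) with hC
  set g : ↥C := ⟨val x, mem_centralizer_singleton_iff.2 hxt⟩ with hg
  set H := Hot d.chi g
  have hgg : g * g = 1 := Subtype.ext hxx
  have hxi : (val x)⁻¹ = val x := inv_eq_of_mul_eq_one_right hxx
  have hxN : val x ∈ Subgroup.normalizer (A : Set G) := d.ctx.q_mem_N x
  set P := (A ⊓ centralizer ({val x} : Set G)).subgroupOf C
  have hP : IsPGroup 2 ↥P := (((IsPGroup.of_card d.ctx.card).to_le inf_le_left).comap_subtype)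
  rw [parity_fixed (P := ↥P) hP H fun p y hy => hot_smul d.chi (g := g) (k := (p : ↥C))
    (Subtype.ext (mem_centralizer_singleton_iff.1 p.2.2)) hy]
  set S1 : Set (↥C ⧸ Lt z (val tq)) := {y | wz y ∈ A ∧ g • y = y}
  set S2 : Set (↥C ⧸ Lt z (val tq)) :=
    {y | (∃ e ∈ A, val x * e = e * val x ∧ wz y = e * val x) ∧ y ∈ H}
  -- those in the elementary group are all hot
  have hS1H : S1 ⊆ H := by
    rintro y ⟨hyA, hyg⟩
    obtain ⟨p, r, hpr, hpa, hpb, hra, hrb, e⟩ := d.wz_mem hyA
    obtain ⟨m, hmt, hmz⟩ := d.exists_rep hpr hpa hpb hra hrb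
    set mc : ↥C := ⟨(m : G), mem_centralizer_singleton_iff.2 hmt⟩
    have hy : (mc : ↥C ⧸ Lt z (val tq)) = y := wz_inj (by
      rw [wz_mk, show ((mc : ↥C) : G) = (m : G) from rfl, hmz, ← e, d.ctx.comm d.t_mem (mul_mem hyA d.t_mem),
        mul_assoc, d.tt, mul_one])
    subst hy
    rw [smul_iff, wz_mk] at hyg
    have hz' : ((m : G)⁻¹ * val x * (m : G)) * z = z * ((m : G)⁻¹ * val x * (m : G)) := by
      calc ((m : G)⁻¹ * val x * (m : G)) * z = (m : G)⁻¹ * (val x * ((m : G) * z * (m : G)⁻¹)) * (m : G) := by group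
        _ = _ := by rw [show val x * ((m : G) * z * (m : G)⁻¹) = (m : G) * z * (m : G)⁻¹ * val x from hyg]; group
    refine (mem_hot d.chi mc).2 ⟨mem_centralizer_singleton_iff.2 hz', fun h1 => ?_⟩
    have hside := (d.chi_eq_one _).1 h1
    set k : ↥(Subgroup.normalizer (A : Set G)) := m⁻¹ * ⟨val x, hxN⟩ * m with hk
    have hkt : (k : G) * val tq = val tq * (k : G) :=
      ((Commute.inv_left hmt).mul_left hxt).mul_left hmt
    have hka : ψ k a = a := (d.side_iff k hz' hkt).1 hside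
    have hx' : ¬ side (tq := tq) (uq := uq) (val x) := by
      rintro (r | r)
      · exact d.uz_ne.1 (hxu.symm.trans r)
      · exact d.uz_ne.2 (hxu.symm.trans r)
    refine hx' ((d.side_iff ⟨val x, hxN⟩ (d.ctx.comm_z (x : centralizer ({z} : Set G))) hxt).2 ?_)
    have e' : ψ m (ψ k a) = ψ ⟨val x, hxN⟩ (ψ m a) := by
      rw [← Equiv.Perm.mul_apply, ← Equiv.Perm.mul_apply, ← map_mul, ← map_mul, hk]
      congr 2
      group
    rw [hka] at e'
    rcases d.fix_pair m hmt with ⟨h1, h2⟩ | ⟨h1, h2⟩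
    · rw [h1] at e'; exact e'.symm
    · rw [h1] at e'
      rcases d.fix_pair ⟨val x, hxN⟩ hxt with ⟨h3, h4⟩ | ⟨h3, h4⟩
      · exact h3
      · rw [h4] at e'; exact absurd e' d.ab.symm
  -- the hot cosets fixed by the centraliser of the involution
  have hsplit : H ∩ {y | ∀ p : ↥P, p • y = y} = S1 ∪ S2 := by
    ext y
    constructor
    · rintro ⟨hy, hfix⟩
      have h1 := (smul_iff g y).1 (hot_fixed d.chi hy)
      rcases d.cent_full hxx hxt hxu (k := wz y) h1.symm (fun e he hc => ((smul_iff (d.elt he) y).1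
        (hfix ⟨d.elt he, ⟨he, mem_centralizer_singleton_iff.2 hc.symm⟩⟩)).symm) with ⟨h, -⟩ | h
      · exact Or.inl ⟨h, hot_fixed d.chi hy⟩
      · exact Or.inr ⟨h, hy⟩
    · intro hy
      refine ⟨hy.elim (fun h => hS1H h) fun h => h.2, fun p => (smul_iff (p : ↥C) y).2 ?_⟩
      rcases hy with ⟨h, -⟩ | ⟨⟨e, he, hc, e'⟩, -⟩
      · exact d.ctx.comm p.2.1 h
      · rw [e']
        exact (Commute.mul_right (d.ctx.comm p.2.1 he) (mem_centralizer_singleton_iff.1 p.2.2)).eq
  have hodd1 : Odd S1.ncard := by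
    have hzp : IsPGroup 2 ↥(zpowers g) := IsPGroup.of_card (n := 1) (by
      haveI := Fact.mk Nat.prime_two
      rw [Nat.card_zpowers, pow_one]
      exact orderOf_eq_prime (by rw [pow_two, hgg]) fun h => d.x_notMem hxu (by
        rw [show val x = 1 from congrArg Subtype.val h]; exact one_mem A))
    have h := (parity_fixed (P := ↥(zpowers g)) hzp {y | wz y ∈ A} (fun p y hy => by
      show wz ((p : ↥C) • y) ∈ A
      rw [wz_smul]
      obtain ⟨i, hi⟩ := Subgroup.mem_zpowers_iff.1 p.2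
      rw [← hi, Subgroup.coe_zpow]
      exact d.ctx.conj_mem (zpow_mem hxN i) hy)).1 d.odd_inA
    convert h using 2
    ext y
    refine and_congr_right' ⟨fun hy p => ?_, fun hy => hy ⟨g, mem_zpowers g⟩⟩
    obtain ⟨i, hi⟩ := Subgroup.mem_zpowers_iff.1 p.2
    show (p : ↥C) • y = y
    rw [← hi]
    exact zpow_mem (show g ∈ MulAction.stabilizer ↥C y from hy) i
  have hev2 : Even S2.ncard := by
    obtain ⟨y₀, hy₀, hy1, hy2⟩ := d.exists_move hxx hxt hxu
    have hu1 : val x * val uq ≠ val uq * val x := fun r => d.uz_ne.1 (by rw [← hxu, r, mul_inv_cancel_right])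
    set e1 := d.elt d.u_mem
    set e2 := d.elt hy₀
    have hclo : ∀ (e : G) (he : e ∈ A) (w : ↥C ⧸ Lt z (val tq)), w ∈ S2 → d.elt he • w ∈ H →
        d.elt he • w ∈ S2 := by
      rintro e he w ⟨⟨e', he', hc, ew⟩, -⟩ hh
      have hq : val x * e * val x ∈ A := by
        have := d.ctx.conj_mem hxN he
        rwa [hxi] at this
      refine ⟨⟨e * e' * (val x * e * val x), mul_mem (mul_mem he he') hq, ?_, ?_⟩, hh⟩
      · calc val x * (e * e' * (val x * e * val x))
            = val x * e * val x * (val x * e' * val x) * (val x * (val x * e * val x) * val x) * val x := by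
              simp only [← mul_assoc, hxx, one_mul, mul_assoc _ (val x) (val x), mul_one]
          _ = val x * e * val x * e' * e * val x := by
              rw [hc, mul_assoc e', hxx, mul_one]
              simp only [← mul_assoc, hxx, one_mul]
              simp only [mul_assoc, hxx, mul_one]
          _ = e * e' * (val x * e * val x) * val x := by
              rw [d.ctx.comm (mul_mem he he') hq, d.ctx.comm he he']
              simp only [mul_assoc]
      · rw [wz_smul, ew, show ((d.elt he : ↥C) : G) = e from rfl, d.ctx.inv he]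
        simp only [mul_assoc]
        congr 2
        rw [hxx, mul_one]
    have hpar : ∀ w ∈ S2, ((e1 * e2) • w ∈ H ↔ (e1 • w ∈ H ↔ e2 • w ∈ H)) := by
      rintro w ⟨⟨e', he', hc, ew⟩, hw⟩
      obtain ⟨r, rfl⟩ := QuotientGroup.mk_surjective w
      rw [wz_mk] at ew
      obtain ⟨h0, h0ne⟩ := (mem_hot d.chi r).1 hw
      -- the conjugating factors
      let K : G → G := fun e => val x * e * val x * e
      have hKA : ∀ e ∈ A, K e ∈ A := fun e he => mul_mem (by
        have := d.ctx.conj_mem hxN he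
        rwa [hxi] at this) he
      have hKx : ∀ e ∈ A, K e * val x = val x * K e := fun e he => by
        have h := d.ctx.comm (show val x * e * val x ∈ A by
          have := d.ctx.conj_mem hxN he
          rwa [hxi] at this) he
        calc K e * val x = e * (val x * e * val x) * val x := by rw [← h]
          _ = e * val x * e := by simp only [mul_assoc, hxx, mul_one]
          _ = val x * K e := by simp only [K, ← mul_assoc, hxx, one_mul]
      have hKmul : ∀ e ∈ A, ∀ e' ∈ A, K (e * e') = K e * K e' := fun e he e'' he'' => by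
        have hq : ∀ i ∈ A, val x * i * val x ∈ A := fun i hi => by
          have := d.ctx.conj_mem hxN hi
          rwa [hxi] at this
        calc K (e * e'') = val x * e * val x * ((val x * e'' * val x) * e) * e'' := by
              simp only [K, mul_assoc]
              rw [← mul_assoc (val x) (val x), hxx, one_mul]
          _ = K e * K e'' := by rw [d.ctx.comm (hq e'' he'') he]; simp only [K, mul_assoc]
      have hKL : ∀ e ∈ A, ((r : G)⁻¹ * K e * (r : G)) * z = z * ((r : G)⁻¹ * K e * (r : G)) := fun e he => by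
        have hw' : K e * ((r : G) * z * (r : G)⁻¹) = (r : G) * z * (r : G)⁻¹ * K e := by
          rw [ew, ← mul_assoc, d.ctx.comm (hKA e he) he', mul_assoc, hKx e he, mul_assoc]
        calc (r : G)⁻¹ * K e * (r : G) * z = (r : G)⁻¹ * (K e * ((r : G) * z * (r : G)⁻¹)) * (r : G) := by group
          _ = _ := by rw [hw']; group
      let κ : ∀ e ∈ A, ↥(Lt z (val tq)) := fun e he =>
        ⟨r⁻¹ * d.elt (hKA e he) * r, mem_centralizer_singleton_iff.2 (hKL e he)⟩
      have hval : ∀ e (he : e ∈ A), (((d.elt he : ↥C) * r : ↥C) : ↥C ⧸ Lt z (val tq)) ∈ H ↔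
          d.chi (⟨_, h0⟩ * κ e he) ≠ 1 := by
        intro e he
        have eq1 : ((d.elt he : ↥C) * r)⁻¹ * g * ((d.elt he : ↥C) * r) =
            ((⟨_, h0⟩ * κ e he : ↥(Lt z (val tq))) : ↥C) := by
          refine Subtype.ext ?_
          show (e * (r : G))⁻¹ * val x * (e * (r : G)) =
            (r : G)⁻¹ * val x * (r : G) * ((r : G)⁻¹ * (val x * e * val x * e) * (r : G))
          rw [mul_inv_rev, d.ctx.inv he]
          calc (r : G)⁻¹ * e * val x * (e * (r : G)) = (r : G)⁻¹ * (e * val x * e) * (r : G) := by group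
            _ = (r : G)⁻¹ * (val x * val x * (e * val x * e)) * (r : G) := by rw [hxx, one_mul]
            _ = _ := by group
        rw [mem_hot]
        refine ⟨fun ⟨h, hne⟩ => ?_, fun hne => ⟨eq1.symm ▸ (⟨_, h0⟩ * κ e he : ↥(Lt z (val tq))).2, ?_⟩⟩
        · rwa [show (⟨_, h⟩ : ↥(Lt z (val tq))) = ⟨_, h0⟩ * κ e he from Subtype.ext eq1] at hne
        · rwa [show (⟨_, _⟩ : ↥(Lt z (val tq))) = ⟨_, h0⟩ * κ e he from Subtype.ext eq1]
      have hprod : κ _ (mul_mem d.u_mem hy₀) = κ _ d.u_mem * κ _ hy₀ := by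
        refine Subtype.ext (Subtype.ext ?_)
        show (r : G)⁻¹ * K (val uq * y₀) * (r : G) =
          (r : G)⁻¹ * K (val uq) * (r : G) * ((r : G)⁻¹ * K y₀ * (r : G))
        rw [hKmul _ d.u_mem _ hy₀]
        group
      have he12 : e1 * e2 = d.elt (mul_mem d.u_mem hy₀) := rfl
      rw [he12]
      show ((d.elt _ * r : ↥C) : ↥C ⧸ _) ∈ H ↔ (((d.elt _ * r : ↥C) : ↥C ⧸ _) ∈ H ↔
        ((d.elt _ * r : ↥C) : ↥C ⧸ _) ∈ H)
      rw [hval, hval, hval, hprod, map_mul, map_mul, map_mul, map_mul]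
      revert h0ne
      generalize d.chi ⟨_, h0⟩ = c₀
      generalize d.chi (κ _ d.u_mem) = c₁
      generalize d.chi (κ _ hy₀) = c₂
      revert c₀ c₁ c₂
      decide
    have hne : ∀ (e : G) (he : e ∈ A), val x * e ≠ e * val x → ∀ w ∈ S2, d.elt he • w ≠ w := by
      rintro e he hne w ⟨⟨e', he', -, ew⟩, -⟩ h
      have h1 : e * wz w = wz w * e := (smul_iff (d.elt he) w).1 h
      rw [ew, ← mul_assoc, d.ctx.comm he he', mul_assoc, mul_assoc] at h1
      exact hne (mul_left_cancel h1).symm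
    have hinvol : ∀ e (he : e ∈ A) (w : ↥C ⧸ Lt z (val tq)), d.elt he • d.elt he • w = w := fun e he w => by
      rw [smul_smul, show d.elt he * d.elt he = 1 from Subtype.ext (d.ctx.sq he), one_smul]
    have h12 : e1 * e2 = e2 * e1 := Subtype.ext (d.ctx.comm d.u_mem hy₀)
    have he3 : e1 * e2 = d.elt (mul_mem d.u_mem hy₀) := rfl
    refine even_of_involution S2 (fun w => if e1 • w ∈ H then e1 • w else if e2 • w ∈ H then e2 • w
      else (e1 * e2) • w) (fun w hw => ?_) (fun w hw => ?_) fun w hw => ?_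
    · split_ifs with h1 h2
      · exact hclo _ d.u_mem w hw h1
      · exact hclo _ hy₀ w hw h2
      · exact hclo _ (mul_mem d.u_mem hy₀) w hw ((hpar w hw).2 (iff_of_false h1 h2))
    · have k1 : e1 • e1 • w = w := hinvol _ d.u_mem w
      have k2 : e2 • e2 • w = w := hinvol _ hy₀ w
      by_cases h1 : e1 • w ∈ H
      · simp only [if_pos h1]
        rw [if_pos (k1.symm ▸ hw.2), k1]
      · by_cases h2 : e2 • w ∈ H
        · simp only [if_neg h1, if_pos h2]
          have : e1 • e2 • w ∉ H := by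
            rw [smul_smul]
            exact fun h => h1 (((hpar w hw).1 h).2 h2)
          rw [if_neg this, if_pos (k2.symm ▸ hw.2), k2]
        · simp only [if_neg h1, if_neg h2]
          have k3 : e1 • (e1 * e2) • w = e2 • w := by rw [smul_smul, ← mul_assoc, ← smul_smul (e1 * e1)]; rw [show e1 * e1 = 1 from Subtype.ext d.uu, one_smul]
          have k4 : e2 • (e1 * e2) • w = e1 • w := by rw [h12, mul_smul, smul_smul e2 e2, show e2 * e2 = 1 from Subtype.ext (d.ctx.sq hy₀), one_smul]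
          rw [if_neg (k3.symm ▸ h2), if_neg (k4.symm ▸ h1), he3]
          exact hinvol _ _ w
    · split_ifs with h1 h2
      · exact hne _ d.u_mem hu1 w hw
      · exact hne _ hy₀ hy1 w hw
      · exact hne _ (mul_mem d.u_mem hy₀) hy2 w hw
  rw [hsplit, Set.ncard_union_eq ?_ (Set.toFinite _) (Set.toFinite _)]
  · exact hodd1.add_even hev2
  · rw [Set.disjoint_left]
    rintro y ⟨h, -⟩ ⟨⟨e, he, -, ey⟩, -⟩
    rw [ey] at h
    exact d.x_notMem hxu ((mul_mem_cancel_left he).1 h)

end Cfg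

end CfsgLib.LargeFischer.Inner
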