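import Cfsg.Agent.Lib.LargeFischer.Inner.Duads

/-!
# A pair element in `Q`: its centraliser in the centraliser of `z` has a character, and an involution of `Q` outside it
-/

set_option autoImplicit false
set_option linter.unusedSectionVars false
set_option linter.style.haveILetI false
set_option maxHeartbeats 1000000

namespace CfsgLib.LargeFischer.Inner

open Subgroup QuadraticMap CfsgLib.LargeFischer.Thompson
open Cfsg (GolayPt)
open CfsgLib.Schur.Tails.UFour (H4)
open scoped Pointwise

variable {G : Type*} [Group G] [Finite G] {z : G}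
  {Q : Subgroup (centralizer ({z} : Set G))} [Q.Normal] {V : Type*} [AddCommGroup V] [Module (ZMod 2) V]
  [DistribMulAction ((centralizer ({z} : Set G)) ⧸ Q) V] [Finite V] {q : QuadraticForm (ZMod 2) V} {π : ↥Q → V}
  {n : (centralizer ({z} : Set G)) ⧸ Q} {M : Subgroup ((centralizer ({z} : Set G)) ⧸ Q)} {φ : ↥M →* ↥H4}
  {s : V} {E : Subgroup ((centralizer ({z} : Set G)) ⧸ Q)} {D : AddSubgroup V}
  {A : Subgroup G} {Ab : Subgroup ((centralizer ({z} : Set G)) ⧸ Q)}

/-- Four points in one block of the sextet of `z` and the elements of two of their pairs in `Q`. -/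
structure Cfg (Q : Subgroup (centralizer ({z} : Set G))) [Q.Normal] {V : Type*} [AddCommGroup V]
    [Module (ZMod 2) V] [DistribMulAction ((centralizer ({z} : Set G)) ⧸ Q) V] [Finite V]
    (q : QuadraticForm (ZMod 2) V) (π : ↥Q → V) (n : (centralizer ({z} : Set G)) ⧸ Q)
    (M : Subgroup ((centralizer ({z} : Set G)) ⧸ Q)) (φ : ↥M →* ↥H4) (s : V)
    (E : Subgroup ((centralizer ({z} : Set G)) ⧸ Q)) (D : AddSubgroup V)
    (A : Subgroup G) (Ab : Subgroup ((centralizer ({z} : Set G)) ⧸ Q))
    (f : GolayPt → G) (ψ : ↥(Subgroup.normalizer (A : Set G)) →* Equiv.Perm GolayPt)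
    (a b u v : GolayPt) (tq uq : ↥Q) : Prop where
  ctx : Ctx Q q π n M φ s E D A Ab
  lab : Lab z A f ψ
  ab : a ≠ b
  au : a ≠ u
  av : a ≠ v
  bu : b ≠ u
  bv : b ≠ v
  uv : u ≠ v
  hz : f a * f b * (f u * f v) = z
  ht : val tq = f a * f b
  hu : val uq = f b * f u
  line : π uq = n • π tq ∨ π uq = n • n • π tq

namespace Cfg

variable {f : GolayPt → G} {ψ : ↥(Subgroup.normalizer (A : Set G)) →* Equiv.Perm GolayPt}
  {a b u v : GolayPt} {tq uq : ↥Q} (d : Cfg Q q π n M φ s E D A Ab f ψ a b u v tq uq)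
include d

theorem t_mem : val tq ∈ A := d.ht ▸ mul_mem (d.lab.mem a) (d.lab.mem b)

theorem u_mem : val uq ∈ A := d.hu ▸ mul_mem (d.lab.mem b) (d.lab.mem u)

theorem t_Ns : val tq ∈ Ns z A := d.ht ▸ d.lab.pair a b d.ab

theorem tt : val tq * val tq = 1 := d.lab.sq _ d.t_mem

theorem uu : val uq * val uq = 1 := d.lab.sq _ d.u_mem

theorem zt : z * val tq = f u * f v := by
  have h : val tq * (f u * f v) = z := by rw [d.ht]; exact d.hz
  calc z * val tq = val tq * (val tq * (f u * f v)) := by
        rw [h]; exact d.ctx.comm d.ctx.z_mem d.t_mem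
    _ = f u * f v := by rw [← mul_assoc, d.tt, one_mul]

theorem ut : val uq * val tq = f a * f u := by
  rw [d.hu, d.ht, d.lab.comm _ (mul_mem (d.lab.mem b) (d.lab.mem u)) _ (mul_mem (d.lab.mem a) (d.lab.mem b)),
    d.lab.mul_share]

theorem uz : val uq * z = f a * f v := by
  have h : z = val tq * (f u * f v) := by rw [d.ht]; exact d.hz.symm
  calc val uq * z = val uq * (val tq * (f u * f v)) := congrArg (val uq * ·) h
    _ = f a * f v := by rw [← mul_assoc, d.ut, d.lab.mul_share]

theorem utz : val uq * (val tq * z) = f b * f v := by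
  rw [d.ctx.comm d.t_mem d.ctx.z_mem, d.zt, d.hu, d.lab.mul_share]

theorem t_ne : val tq ≠ 1 := d.t_Ns.2.1

theorem t_ne_z : val tq ≠ z := fun e => d.t_Ns.2.2 (e.symm ▸ IsConj.refl z)

theorem uz_ne : val uq * z ≠ val uq ∧ val uq * z ≠ val uq * (val tq * z) :=
  ⟨fun e => d.ctx.z_ne (mul_eq_left.1 e), fun e => d.t_ne (right_eq_mul.1 (mul_left_cancel e))⟩

theorem ut_ne : val uq * val tq ≠ val uq ∧ val uq * val tq ≠ val uq * (val tq * z) :=
  ⟨fun e => d.t_ne (mul_eq_left.1 e), fun e => d.ctx.z_ne (left_eq_mul.1 (mul_left_cancel e))⟩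

theorem pi_t_ne : π tq ≠ 0 := fun e => ((d.ctx.mdl.ker tq).1 e).elim d.t_ne d.t_ne_z

theorem polar_tu : polar q (π tq) (π uq) = 0 :=
  (d.ctx.mdl.polar_iff tq uq).2 (d.ctx.comm d.t_mem d.u_mem)

theorem pi_u_ne : π uq ≠ 0 ∧ π uq ≠ π tq := by
  obtain ⟨h1, h2, -, h4, h5⟩ := d.ctx.oth.n_move d.pi_t_ne
  rcases d.line with e | e <;> rw [e]
  exacts [⟨h4, h1⟩, ⟨h5, h2⟩]

/-- The images of the second element under the centraliser of the first in the centraliser of `z`. -/
theorem conj_u {h : G} (hz : h * z = z * h) (ht : h * val tq = val tq * h) :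
    h * val uq * h⁻¹ = val uq ∨ h * val uq * h⁻¹ = val uq * z ∨ h * val uq * h⁻¹ = val uq * val tq ∨
      h * val uq * h⁻¹ = val uq * (val tq * z) := by
  set w : centralizer ({z} : Set G) := ⟨h, mem_centralizer_singleton_iff.2 hz⟩ with hw
  obtain ⟨x, hx, hpx⟩ := d.ctx.pi_conj w uq
  set k := QuotientGroup.mk' Q w
  have hfix : k • π tq = π tq := d.ctx.mdl.fixed_of_comm d.ctx.hF (c := w) (u := tq) (Subtype.ext ht)
  have hsum := d.ctx.oth.n_sum (π tq)
  have hsum' : n • n • π tq + π tq = n • π tq := by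
    rw [add_comm, ← hsum, ← add_assoc, vadd_self, zero_add]
  have key : π x = π uq ∨ π x = π uq + π tq := by
    rw [hpx]
    rcases d.ctx.mdl.core.conj_n k with e | e
    · have hc : ∀ y : V, k • n • y = n • k • y := fun y => by rw [← mul_smul, ← mul_smul, mul_inv_eq_iff_eq_mul.1 e]
      left
      rcases d.line with e' | e' <;> simp [e', hc, hfix]
    · have hc : ∀ y : V, k • n • y = n • n • k • y := fun y => by
        rw [← mul_smul, ← mul_smul, ← mul_smul, mul_inv_eq_iff_eq_mul.1 e]
      right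
      rcases d.line with e' | e'
      · rw [e', hc, hfix, ← hsum, add_comm]
      · rw [e', hc, hc, hfix, d.ctx.mdl.core.smul_n_three, hsum']
  have hxv : h * val uq * h⁻¹ = val x := hx.symm
  rcases key with e | e
  · rcases d.ctx.mdl.pi_eq e.symm with r | r
    · exact Or.inl (hxv.trans r)
    · exact Or.inr (Or.inl (hxv.trans r))
  · rcases d.ctx.mdl.pi_eq (x := uq * tq) (y := x) (by rw [d.ctx.mdl.pi_mul, e]) with r | r
    · exact Or.inr (Or.inr (Or.inl (hxv.trans r)))
    · exact Or.inr (Or.inr (Or.inr (hxv.trans (r.trans (mul_assoc _ _ _)))))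

/-- The class of the second element. -/
def side (h : G) : Prop := h * val uq * h⁻¹ = val uq ∨ h * val uq * h⁻¹ = val uq * (val tq * z)

theorem side_or {h : G} (hz : h * z = z * h) (ht : h * val tq = val tq * h) :
    side (tq := tq) (uq := uq) h ∨ h * val uq * h⁻¹ = val uq * z ∨ h * val uq * h⁻¹ = val uq * val tq := by
  rcases d.conj_u hz ht with e | e | e | e
  · exact Or.inl (Or.inl e)
  · exact Or.inr (Or.inl e)
  · exact Or.inr (Or.inr e)
  · exact Or.inl (Or.inr e)

theorem side_mul {g h : G} (gz : g * z = z * g) (gt : g * val tq = val tq * g) (hz : h * z = z * h)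
    (ht : h * val tq = val tq * h) :
    side (tq := tq) (uq := uq) (g * h) ↔ (side (tq := tq) (uq := uq) g ↔ side (tq := tq) (uq := uq) h) := by
  have hgz : g * z * g⁻¹ = z := by rw [gz, mul_inv_cancel_right]
  have hgt : g * val tq * g⁻¹ = val tq := by rw [gt, mul_inv_cancel_right]
  have e : g * h * val uq * (g * h)⁻¹ = g * (h * val uq * h⁻¹) * g⁻¹ := by group
  have cz : ∀ x, g * (x * z) * g⁻¹ = g * x * g⁻¹ * z := fun x => by
    calc g * (x * z) * g⁻¹ = g * x * g⁻¹ * (g * z * g⁻¹) := by group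
      _ = _ := by rw [hgz]
  have ct : ∀ x, g * (x * val tq) * g⁻¹ = g * x * g⁻¹ * val tq := fun x => by
    calc g * (x * val tq) * g⁻¹ = g * x * g⁻¹ * (g * val tq * g⁻¹) := by group
      _ = _ := by rw [hgt]
  have z2 : ∀ x, x * z * z = x := fun x => by rw [mul_assoc, d.ctx.zz, mul_one]
  have t2 : ∀ x, x * val tq * val tq = x := fun x => by rw [mul_assoc, d.tt, mul_one]
  have zt : ∀ x, x * z * val tq = x * val tq * z := fun x => by
    rw [mul_assoc, d.ctx.comm d.ctx.z_mem d.t_mem, mul_assoc]
  obtain ⟨n1, n2⟩ := d.uz_ne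
  obtain ⟨n3, n4⟩ := d.ut_ne
  have key : ∀ x, x * (val tq * z) = x * val tq * z := fun x => (mul_assoc _ _ _).symm
  rw [key] at n2 n4
  have n5 : val uq * val tq * z ≠ val uq := fun r => d.t_ne_z (by
    have r' : val tq * z = 1 := mul_eq_left.1 ((key _).trans r)
    rw [← mul_one (val tq), ← d.ctx.zz, ← mul_assoc, r', one_mul])
  unfold side
  rw [e]
  rcases d.conj_u hz ht with r | r | r | r <;> rcases d.conj_u gz gt with p | p | p | p <;>
    simp only [r, p, cz, ct, key, z2, t2, zt, n1, n2, n3, n4, n5, or_false, or_true, true_or, false_or,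
      iff_self, false_iff, true_iff, iff_true, iff_false, not_false_iff, not_true]

/-- The centraliser of the pair element and of `z`. -/
def Lt (z t : G) : Subgroup ↥(centralizer ({t} : Set G)) :=
  (centralizer ({z} : Set G)).subgroupOf (centralizer ({t} : Set G))

omit d in
theorem lt_comm {t : G} (x : ↥(Lt z t)) : ((x : ↥(centralizer ({t} : Set G))) : G) * z = z * ((x : ↥(centralizer ({t} : Set G))) : G) ∧
    ((x : ↥(centralizer ({t} : Set G))) : G) * t = t * ((x : ↥(centralizer ({t} : Set G))) : G) :=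
  ⟨mem_centralizer_singleton_iff.1 (show ((x : ↥(centralizer ({t} : Set G))) : G) ∈ _ from x.2),
    mem_centralizer_singleton_iff.1 (x : ↥(centralizer ({t} : Set G))).2⟩

/-- The character. -/
noncomputable def chi : ↥(Lt z (val tq)) →* Multiplicative (ZMod 2) :=
  haveI := Classical.propDecidable
  MonoidHom.mk' (fun x => if side (tq := tq) (uq := uq) ((x : ↥(centralizer ({val tq} : Set G))) : G) then 1
    else Multiplicative.ofAdd 1) fun x y => by
    have h := d.side_mul (lt_comm x).1 (lt_comm x).2 (lt_comm y).1 (lt_comm y).2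
    simp only [Subgroup.coe_mul]
    by_cases hx : side (tq := tq) (uq := uq) ((x : ↥(centralizer ({val tq} : Set G))) : G) <;>
    by_cases hy : side (tq := tq) (uq := uq) ((y : ↥(centralizer ({val tq} : Set G))) : G) <;>
      simp [h, hx, hy] <;> rfl

theorem chi_eq_one (x : ↥(Lt z (val tq))) :
    d.chi x = 1 ↔ side (tq := tq) (uq := uq) ((x : ↥(centralizer ({val tq} : Set G))) : G) := by
  classical
  unfold chi
  simp only [MonoidHom.mk'_apply]
  split_ifs with h
  · exact iff_of_true rfl h
  · exact iff_of_false (by decide) h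

/-- An involution of `Q` commuting with the first element and sending the second to its product with `z`. -/
theorem exists_q : ∃ x : ↥Q, val x * val x = 1 ∧ val x * val tq = val tq * val x ∧
    val x * val uq * (val x)⁻¹ = val uq * z := by
  obtain ⟨w, hw1, hw2⟩ : ∃ w, polar q w (π tq) = 0 ∧ polar q w (π uq) = 1 := by
    by_contra hc
    push Not at hc
    obtain ⟨h1, h2⟩ := d.pi_u_ne
    refine (Model.double_perp d.ctx.mdl.core.nondeg (w := π tq) (u := π uq) fun y hy => ?_).elim h1 h2
    exact (z2_cases _).resolve_right fun e => hc y hy e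
  have hqu : q (π uq) = 0 := (d.ctx.mdl.sq uq).2 (Subtype.ext (Subtype.ext d.uu))
  obtain ⟨w', hw0, hw1', hw2'⟩ : ∃ w', q w' = 0 ∧ polar q w' (π tq) = 0 ∧ polar q w' (π uq) = 1 := by
    rcases z2_cases (q w) with e | e
    · exact ⟨w, e, hw1, hw2⟩
    · refine ⟨w + π uq, by rw [q_add, e, hqu, hw2]; decide, ?_, ?_⟩
      · rw [QuadraticMap.polar_add_left, hw1, QuadraticMap.polar_comm q (π uq), d.polar_tu, add_zero]
      · rw [QuadraticMap.polar_add_left, hw2, polar_self_zero, add_zero]
  obtain ⟨x, rfl⟩ := d.ctx.mdl.surj w'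
  refine ⟨x, congrArg val ((d.ctx.mdl.sq x).1 hw0), (d.ctx.mdl.polar_iff x tq).1 hw1', ?_⟩
  obtain ⟨y, hy, hpy⟩ := d.ctx.pi_conj (x : centralizer ({z} : Set G)) uq
  rw [show QuotientGroup.mk' Q (x : centralizer ({z} : Set G)) = 1 from (QuotientGroup.eq_one_iff _).2 x.2,
    one_smul] at hpy
  rcases d.ctx.mdl.pi_eq hpy.symm with r | r
  · exfalso
    have h0 := (d.ctx.mdl.polar_iff x uq).2 (mul_inv_eq_iff_eq_mul.1 (hy.symm.trans r))
    rw [h0] at hw2'
    exact zero_ne_one hw2'
  · exact hy.symm.trans r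

variable {x : ↥Q} (hxx : val x * val x = 1) (hxt : val x * val tq = val tq * val x)
  (hxu : val x * val uq * (val x)⁻¹ = val uq * z)
include hxu

theorem polar_xu : polar q (π x) (π uq) = 1 := by
  refine (z2_cases _).resolve_left fun e => d.uz_ne.1 ?_
  rw [← hxu, (d.ctx.mdl.polar_iff x uq).1 e, mul_inv_cancel_right]

theorem x_notMem : val x ∉ A := fun h => d.uz_ne.1 (by
  rw [← hxu, d.ctx.comm h d.u_mem, mul_inv_cancel_right])

include hxx hxt

/-- The centraliser of the centraliser of the involution in the part in `Q`. -/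
theorem cent_part {k : G} (hk : ∀ e : ↥Q, val e ∈ A → val x * val e = val e * val x → k * val e = val e * k) :
    k ∈ A ∨ k * val x ∈ A := by
  obtain ⟨z₀, hz₀, hz₀π⟩ := d.ctx.z_val
  have hkz : k * z = z * k := by
    have h := hk z₀ (by rw [hz₀]; exact d.ctx.z_mem) (by rw [hz₀]; exact d.ctx.comm_z (x : centralizer ({z} : Set G)))
    rwa [hz₀] at h
  set w : centralizer ({z} : Set G) := ⟨k, mem_centralizer_singleton_iff.2 hkz⟩ with hw
  set kb := QuotientGroup.mk' Q w with hkb
  set W : AddSubgroup V := fixSub Ab with hW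
  obtain ⟨-, hW64, hnW, hperp⟩ := d.ctx.oth.facts
  have hfix : ∀ y ∈ W, polar q y (π x) = 0 → kb • y = y := by
    intro y hy hp
    obtain ⟨e, rfl⟩ := d.ctx.mdl.surj y
    have he := (d.ctx.mem_Q e).2 hy
    refine d.ctx.mdl.fixed_of_comm d.ctx.hF (c := w) (u := e) (Subtype.ext ?_)
    exact hk e he ((d.ctx.mdl.polar_iff x e).1 (by rw [QuadraticMap.polar_comm]; exact hp))
  have hxtp : polar q (π tq) (π x) = 0 := (d.ctx.mdl.polar_iff tq x).2 hxt.symm
  have hxup : polar q (π uq) (π x) = 1 := by rw [QuadraticMap.polar_comm]; exact d.polar_xu hxu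
  have hvW : π tq ∈ W := (d.ctx.mem_Q tq).1 d.t_mem
  have huW : π uq ∈ W := (d.ctx.mem_Q uq).1 d.u_mem
  have hdec : ∀ y ∈ W, polar q y (π x) = 1 → polar q (y + π uq) (π x) = 0 := fun y _ e => by
    rw [QuadraticMap.polar_add_left, e, hxup]; decide
  have hkM : kb ∈ M := by
    by_contra hout
    -- a nonzero vector orthogonal to the involution with its image under `n`
    obtain ⟨y, hy, hy0, hy1, hy2⟩ : ∃ y ∈ W, y ≠ 0 ∧ polar q y (π x) = 0 ∧ polar q (n • y) (π x) = 0 := by
      by_contra hc
      push Not at hc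
      have hinj : Function.Injective (fun y : ↥W => (polar q (y : V) (π x), polar q (n • (y : V)) (π x))) := by
        intro y y' e
        simp only [Prod.mk.injEq] at e
        refine Subtype.ext (eq_of_vadd (by_contra fun h0 => hc _ (add_mem y.2 y'.2) h0 ?_ ?_))
        · rw [QuadraticMap.polar_add_left, e.1]; generalize polar q (y' : V) (π x) = r; revert r; decide
        · rw [smul_add, QuadraticMap.polar_add_left, e.2]; generalize polar q (n • (y' : V)) (π x) = r; revert r; decide
      have h := Nat.card_le_card_of_injective _ hinj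
      rw [hW64, Nat.card_prod, Nat.card_zmod] at h
      omega
    have h1 := hfix y hy hy1
    have h2 := hfix (n • y) (hnW y hy) hy2
    rw [← mul_smul, d.ctx.mdl.core.conj_n_outer d.ctx.oth.cen hout, mul_smul, mul_smul, h1] at h2
    exact (d.ctx.oth.n_move hy0).2.2.1 h2
  have hku : kb • π uq = π uq := by
    have hn : ∀ y : V, kb • n • y = n • kb • y := fun y => by
      rw [← mul_smul, ← mul_smul, d.ctx.mdl.core.commute hkM]
    rcases d.line with e | e <;> simp [e, hn, hfix _ hvW hxtp]
  have hall : ∀ y ∈ W, kb • y = y := by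
    intro y hy
    rcases z2_cases (polar q y (π x)) with e | e
    · exact hfix y hy e
    · have h := hfix _ (add_mem hy huW) (hdec y hy e)
      rw [smul_add, hku] at h
      exact add_right_cancel h
  have hquad : ∀ y : V, kb • y + y ∈ W := fun y => by
    rw [hW, ← hperp]
    intro r hr
    rw [QuadraticMap.polar_add_left]
    nth_rewrite 1 [← hall r hr]
    rw [d.ctx.mdl.core.polar_smul]
    generalize polar q y r = c; revert c; decide
  have hcomm : ∀ g ∈ Ab, kb * g = g * kb := by
    intro g hg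
    refine eq_of_inv_mul_eq_one (d.ctx.mdl.core.faithful _ fun y => ?_)
    rw [mul_smul, inv_smul_eq_iff]
    obtain ⟨r, hr0⟩ : ∃ r, g • y + y = r := ⟨_, rfl⟩
    obtain ⟨r', hr0'⟩ : ∃ r, kb • y + y = r := ⟨_, rfl⟩
    have e1 : g • y = y + r := by rw [← hr0, add_comm (g • y) y, ← add_assoc, vadd_self, zero_add]
    have e2 : kb • y = y + r' := by rw [← hr0', add_comm (kb • y) y, ← add_assoc, vadd_self, zero_add]
    have hr : r ∈ W := hr0 ▸ d.ctx.oth.quad g hg y
    have hr' : r' ∈ W := hr0' ▸ hquad y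
    rw [mul_smul, mul_smul kb g y, e2, smul_add, e1, smul_add, hall r hr, e2, show g • r' = r' from hr' g hg]
    abel
  obtain ⟨g, hg, hgk⟩ := d.ctx.lift (d.ctx.oth.eq_of_cent (k := kb) (fun g hg => hcomm g hg) hall)
  set y : ↥Q := ⟨g⁻¹ * w, QuotientGroup.eq.1 hgk⟩ with hy
  have hval : val y = (g : G)⁻¹ * k := rfl
  have hyW : π y ∈ W ∨ π (y * x) ∈ W := by
    have hy0 : ∀ r ∈ W, polar q r (π x) = 0 → polar q (π y) r = 0 := by
      intro r hr hp
      obtain ⟨e, rfl⟩ := d.ctx.mdl.surj r
      have he := (d.ctx.mem_Q e).2 hr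
      refine (d.ctx.mdl.polar_iff y e).2 ?_
      show val y * val e = val e * val y
      rw [hval, mul_assoc, hk e he ((d.ctx.mdl.polar_iff x e).1 (by rw [QuadraticMap.polar_comm]; exact hp)),
        ← mul_assoc, d.ctx.comm (inv_mem hg) he, mul_assoc]
    rcases z2_cases (polar q (π y) (π uq)) with e | e
    · left
      rw [hW, ← hperp]
      intro r hr
      rcases z2_cases (polar q r (π x)) with e' | e'
      · exact hy0 r hr e'
      · have h := hy0 _ (add_mem hr huW) (hdec r hr e')
        rwa [QuadraticMap.polar_add_right, e, add_zero] at h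
    · right
      rw [d.ctx.mdl.pi_mul, hW, ← hperp]
      intro r hr
      rw [QuadraticMap.polar_add_left, QuadraticMap.polar_comm q (π x) r]
      rcases z2_cases (polar q r (π x)) with e' | e'
      · rw [hy0 r hr e', e', add_zero]
      · have h := hy0 _ (add_mem hr huW) (hdec r hr e')
        rw [QuadraticMap.polar_add_right, e] at h
        rw [e', h]
  rcases hyW with h | h
  · left
    have := mul_mem hg ((d.ctx.mem_Q y).2 h)
    rwa [hval, mul_inv_cancel_left] at this
  · right
    have h' : (g : G) * val (y * x) ∈ A := mul_mem hg ((d.ctx.mem_Q _).2 h)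
    rwa [show val (y * x) = val y * val x from rfl, hval, mul_assoc, mul_inv_cancel_left] at h'

/-- The centraliser of the involution and its centraliser in the elementary group. -/
theorem cent_full {k : G} (hkx : k * val x = val x * k)
    (hk : ∀ e ∈ A, val x * e = e * val x → k * e = e * k) :
    (k ∈ A ∧ k * val x = val x * k) ∨ ∃ e ∈ A, val x * e = e * val x ∧ k = e * val x := by
  rcases d.cent_part hxx hxt hxu (k := k) (fun e he hc => hk _ he hc) with h | h
  · exact Or.inl ⟨h, hkx⟩
  · refine Or.inr ⟨_, h, ?_, by rw [mul_assoc, hxx, mul_one]⟩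
    rw [← mul_assoc, ← hkx]

/-- Two elements whose nontrivial combinations do not commute with the involution. -/
theorem exists_move : ∃ y ∈ A, val x * y ≠ y * val x ∧ val x * (val uq * y) ≠ val uq * y * val x := by
  by_contra hc
  push Not at hc
  have hxW : π x ∈ (fixSub Ab : AddSubgroup V) := by
    intro g hg
    obtain ⟨w, hw, rfl⟩ := d.ctx.lift hg
    obtain ⟨r, -, hr, hpr⟩ := d.ctx.comm_q hw x
    suffices h : π r = 0 by
      refine eq_of_vadd ?_
      rw [← h, hpr]
    by_cases h1 : val x * (w : G) = (w : G) * val x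
    · rw [h1, mul_inv_cancel_right] at hr
      have e : val r = 1 := left_eq_mul.1 hr
      exact (d.ctx.mdl.ker r).2 (Or.inl e)
    · have h2 := hc _ hw h1
      have e : val x * (w : G) * (val x)⁻¹ = (w : G) * z := by
        have h3 : val x * (val uq * w) * (val x)⁻¹ = val uq * w := by rw [h2, mul_inv_cancel_right]
        rw [show val x * (val uq * (w : G)) * (val x)⁻¹ = val x * val uq * (val x)⁻¹ * (val x * w * (val x)⁻¹) by
          group, hxu, mul_assoc] at h3
        have h4 := mul_left_cancel h3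
        calc val x * (w : G) * (val x)⁻¹ = z * (z * (val x * w * (val x)⁻¹)) := by
              rw [← mul_assoc, d.ctx.zz, one_mul]
          _ = (w : G) * z := by rw [h4]; exact d.ctx.comm d.ctx.z_mem hw
      exact (d.ctx.mdl.ker r).2 (Or.inr (mul_left_cancel (hr.symm.trans e)))
  exact d.x_notMem hxu ((d.ctx.mem_Q x).2 hxW)

end Cfg

end CfsgLib.LargeFischer.Inner
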