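import Cfsg.Agent.Lib.LargeFischer.Inner.Index
import Cfsg.Agent.Lib.ThreeTransp.U6Recog.Whole
import Cfsg.Agent.Lib.ThreeTransp.M22Y332.Iso
import Cfsg.Agent.Lib.ThreeTransp.M22PairAutFinal
import Cfsg.Agent.Lib.ThreeTransp.M24Pair
import Cfsg.Agent.Lib.ThreeTransp.M24TripleCent
import Cfsg.Agent.Lib.Fi22P.Out

/-!
# The centraliser of a pair element from the centraliser of a triangle: `2.Fi₂₂.2`
-/

set_option autoImplicit false
set_option linter.unusedSectionVars false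
set_option linter.style.haveILetI false
set_option maxHeartbeats 1000000

namespace CfsgLib.LargeFischer.Inner

open Subgroup QuadraticMap CfsgLib.LargeFischer.Thompson
open Cfsg (GolayPt)
open CfsgLib.Schur.Tails.UFour (H4)
open scoped Pointwise
open Cfg (Lt lt_comm chi side)

theorem commutator_top_of_le {α : Type*} [Group α] {K : Subgroup α} (h : K ≤ ⁅K, K⁆) : commutator ↥K = ⊤ := by
  rw [eq_top_iff]
  intro x _
  have h1 : (x : α) ∈ (commutator ↥K).map K.subtype := by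
    rw [_root_.commutator_def, Subgroup.map_commutator, ← MonoidHom.range_eq_map, Subgroup.range_subtype]
    exact h x.2
  obtain ⟨y, hy, e⟩ := h1
  rwa [show y = x from Subtype.ext e] at hy

theorem commutator_top_of_surjective {α β : Type*} [Group α] [Group β] (f : α →* β) (hf : Function.Surjective f)
    (h : commutator α = ⊤) : commutator β = ⊤ := by
  rw [eq_top_iff]
  intro y _
  obtain ⟨x, rfl⟩ := hf y
  have h1 : f x ∈ (commutator α).map f := Subgroup.mem_map_of_mem f (h ▸ Subgroup.mem_top x)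
  rw [_root_.commutator_def, Subgroup.map_commutator] at h1
  exact Subgroup.commutator_mono le_top le_top h1

theorem trivial_of_perfect {α B : Type*} [Group α] [CommGroup B] (h : commutator α = ⊤) (f : α →* B) (x : α) :
    f x = 1 :=
  MonoidHom.mem_ker.1 (Abelianization.commutator_subset_ker f (h ▸ Subgroup.mem_top x))

/-- A transposition of the points is not in the Mathieu group. -/
theorem swap_notMem_M24 {p r : GolayPt} (h : p ≠ r) : Equiv.swap p r ∉ Cfsg.M24 := by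
  classical
  intro hm
  haveI := CfsgLib.Golay.M24_simple
  let S : ↥Cfsg.M24 →* ℤˣ := Equiv.Perm.sign.comp Cfsg.M24.subtype
  rcases (inferInstance : S.ker.Normal).eq_bot_or_eq_top with e | e
  · have hinj : Function.Injective S := (MonoidHom.ker_eq_bot_iff _).1 e
    have h1 := Nat.card_le_card_of_injective S hinj
    rw [CfsgLib.Golay.card_M24] at h1
    simp [Nat.card_eq_fintype_card] at h1
  · have h1 : S ⟨_, hm⟩ = 1 := MonoidHom.mem_ker.1 (e.symm ▸ Subgroup.mem_top (⟨_, hm⟩ : ↥Cfsg.M24))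
    change Equiv.Perm.sign (Equiv.swap p r) = 1 at h1
    rw [Equiv.Perm.sign_swap h] at h1
    exact absurd h1 (by decide)

variable {G : Type*} [Group G] [Finite G] {z : G}
  {Q : Subgroup (centralizer ({z} : Set G))} [Q.Normal] {V : Type*} [AddCommGroup V] [Module (ZMod 2) V]
  [DistribMulAction ((centralizer ({z} : Set G)) ⧸ Q) V] [Finite V] {q : QuadraticForm (ZMod 2) V} {π : ↥Q → V}
  {n : (centralizer ({z} : Set G)) ⧸ Q} {M : Subgroup ((centralizer ({z} : Set G)) ⧸ Q)} {φ : ↥M →* ↥H4}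
  {s : V} {E : Subgroup ((centralizer ({z} : Set G)) ⧸ Q)} {D : AddSubgroup V}
  {A : Subgroup G} {Ab : Subgroup ((centralizer ({z} : Set G)) ⧸ Q)}

namespace Cfg

variable {f : GolayPt → G} {ψ : ↥(Subgroup.normalizer (A : Set G)) →* Equiv.Perm GolayPt}
  {a b u v : GolayPt} {tq uq : ↥Q} (d : Cfg Q q π n M φ s E D A Ab f ψ a b u v tq uq)
include d

/-- The homomorphism onto a group of order two. -/
noncomputable def tau : ↥(centralizer ({val tq} : Set G)) →* Multiplicative (ZMod 2) := MonoidHom.transfer d.chi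

variable {X : Subgroup G} (hX : ∀ g, g ∈ X ↔ g * val tq = val tq * g ∧ g * val uq = val uq * g)
  (hperf : commutator ↥X = ⊤)
include hX hperf

theorem X_le : X ≤ centralizer ({val tq} : Set G) := fun g hg => mem_centralizer_singleton_iff.2 ((hX g).1 hg).1

theorem tau_X {g : ↥(centralizer ({val tq} : Set G))} (hg : (g : G) ∈ X) : d.tau g = 1 := by
  have h := trivial_of_perfect hperf (d.tau.comp (Subgroup.inclusion (d.X_le hX hperf))) ⟨g, hg⟩
  exact h

theorem tau_A {g : ↥(centralizer ({val tq} : Set G))} (hg : (g : G) ∈ A) : d.tau g = 1 :=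
  d.tau_X hX hperf ((hX _).2 ⟨d.ctx.comm hg d.t_mem, d.ctx.comm hg d.u_mem⟩)

theorem tau_fix (m : ↥(Subgroup.normalizer (A : Set G))) (hm : (m : G) * val tq = val tq * (m : G))
    (ha : ψ m a = a) : d.tau ⟨(m : G), mem_centralizer_singleton_iff.2 hm⟩ = 1 := by
  classical
  set P := MulAction.stabilizer ↥Cfsg.M24 a ⊓ MulAction.stabilizer ↥Cfsg.M24 b
  have hP : commutator ↥P = ⊤ := by
    obtain ⟨e⟩ := CfsgLib.Golay.stabilizer_pair_equiv d.ab
    exact commutator_top_of_surjective e.symm.toMonoidHom e.symm.surjective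
      (commutator_top_of_le CfsgLib.Golay.stabTwo_perfect)
  let N₀ : Subgroup ↥(Subgroup.normalizer (A : Set G)) :=
    (MulAction.stabilizer (Equiv.Perm GolayPt) a ⊓ MulAction.stabilizer (Equiv.Perm GolayPt) b).comap ψ
  have hN₀ : ∀ x : ↥N₀, ψ (x : ↥(Subgroup.normalizer (A : Set G))) a = a ∧
      ψ (x : ↥(Subgroup.normalizer (A : Set G))) b = b := fun x => ⟨x.2.1, x.2.2⟩
  have hN₀t : ∀ x : ↥N₀, ((x : ↥(Subgroup.normalizer (A : Set G))) : G) * val tq =
      val tq * ((x : ↥(Subgroup.normalizer (A : Set G))) : G) := fun x => d.of_pair _ (Or.inl (hN₀ x))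
  let θ : ↥N₀ →* ↥(centralizer ({val tq} : Set G)) :=
    { toFun := fun x => ⟨_, mem_centralizer_singleton_iff.2 (hN₀t x)⟩
      map_one' := rfl
      map_mul' := fun _ _ => rfl }
  let ρ : ↥N₀ →* ↥P :=
    { toFun := fun x => ⟨⟨ψ (x : ↥(Subgroup.normalizer (A : Set G))), d.lab.range ▸ ⟨_, rfl⟩⟩,
        Subgroup.mem_inf.2 ⟨(hN₀ x).1, (hN₀ x).2⟩⟩
      map_one' := Subtype.ext (Subtype.ext (map_one ψ))
      map_mul' := fun _ _ => Subtype.ext (Subtype.ext (map_mul ψ _ _)) }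
  have hρ : Function.Surjective ρ := by
    rintro ⟨⟨g, hg⟩, hg'⟩
    obtain ⟨x, rfl⟩ : g ∈ ψ.range := d.lab.range ▸ hg
    exact ⟨⟨x, Subgroup.mem_inf.2 ⟨hg'.1 |> congrArg id, hg'.2 |> congrArg id⟩⟩, rfl⟩
  have hker : ρ.ker ≤ (d.tau.comp θ).ker := by
    intro x hx
    have h1 : (x : ↥(Subgroup.normalizer (A : Set G))) ∈ ψ.ker :=
      congrArg (fun y : ↥P => ((y : ↥Cfsg.M24) : Equiv.Perm GolayPt)) (MonoidHom.mem_ker.1 hx)
    rw [d.lab.ker] at h1
    exact d.tau_A hX hperf (g := θ x) h1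
  have hb : ψ m b = b := by
    rcases d.fix_pair m hm with ⟨-, h⟩ | ⟨h, -⟩
    · exact h
    · exact absurd (ha.symm.trans h) d.ab
  set x : ↥N₀ := ⟨m, Subgroup.mem_inf.2 ⟨ha, hb⟩⟩
  have h := trivial_of_perfect hP (ρ.liftOfSurjective hρ ⟨d.tau.comp θ, hker⟩) (ρ x)
  exact ((ρ.liftOfRightInverse_comp_apply _ _ ⟨d.tau.comp θ, hker⟩ x).symm.trans h :)

theorem exists_tau_ne : ∃ m : ↥(Subgroup.normalizer (A : Set G)), ψ m a = b ∧
    ∃ hm : (m : G) * val tq = val tq * (m : G), d.tau ⟨(m : G), mem_centralizer_singleton_iff.2 hm⟩ ≠ 1 := by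
  obtain ⟨x, hxx, hxt, hxu⟩ := d.exists_q
  refine ⟨⟨val x, d.ctx.q_mem_N x⟩, ?_, hxt, (transfer_involution d.chi (Subtype.ext hxx)).2 (d.odd_hot hxx hxt hxu)⟩
  rcases d.fix_pair ⟨val x, d.ctx.q_mem_N x⟩ hxt with ⟨h, -⟩ | ⟨h, -⟩
  · exfalso
    rcases (d.side_iff ⟨val x, d.ctx.q_mem_N x⟩ (d.ctx.comm_z (x : centralizer ({z} : Set G))) hxt).2 h with r | r
    · exact d.uz_ne.1 (hxu.symm.trans r)
    · exact d.uz_ne.2 (hxu.symm.trans r)
  · exact h

theorem tau_iff (m : ↥(Subgroup.normalizer (A : Set G))) (hm : (m : G) * val tq = val tq * (m : G)) :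
    d.tau ⟨(m : G), mem_centralizer_singleton_iff.2 hm⟩ = 1 ↔ ψ m a = a := by
  refine ⟨fun h => ?_, d.tau_fix hX hperf m hm⟩
  by_contra ha
  obtain ⟨w, hwa, hwt, hw⟩ := d.exists_tau_ne hX hperf
  have hma : ψ m a = b := ((d.fix_pair m hm).resolve_left fun r => ha r.1).1
  have hwi : ψ (w⁻¹ * m) a = a := by
    rw [map_mul, map_inv, Equiv.Perm.mul_apply, hma, Equiv.Perm.inv_eq_iff_eq]
    exact hwa.symm
  have hwm : ((w⁻¹ * m : ↥(Subgroup.normalizer (A : Set G))) : G) * val tq =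
      val tq * ((w⁻¹ * m : ↥(Subgroup.normalizer (A : Set G))) : G) := (Commute.inv_left hwt).mul_left hm
  have h1 := d.tau_fix hX hperf _ hwm hwi
  rw [show (⟨_, mem_centralizer_singleton_iff.2 hwm⟩ : ↥(centralizer ({val tq} : Set G))) =
    (⟨(w : G), mem_centralizer_singleton_iff.2 hwt⟩ : ↥(centralizer ({val tq} : Set G)))⁻¹ *
      ⟨(m : G), mem_centralizer_singleton_iff.2 hm⟩ from rfl, map_mul, h, mul_one, map_inv, inv_eq_one] at h1
  exact hw h1

variable {F : Type} [Field F] [Fintype F] (hF4 : Fintype.card F = 4) (θ : ↥X →* Cfsg.PSU 6 F 2)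
  (hθ : Function.Surjective θ)
  (hθk : ∀ g : ↥X, θ g = 1 ↔ (g : G) = 1 ∨ (g : G) = val tq ∨ (g : G) = val uq ∨ (g : G) = val uq * val tq)
include hθ hθk hF4

/-- The centraliser of the pair element. -/
theorem structure_cent (KK : Subgroup ↥(centralizer ({val tq} : Set G)))
    (hK : KK = Cfsg.generalizedFittingSubgroup ↥(centralizer ({val tq} : Set G)))
    [hn : ((zpowers (val tq)).subgroupOf (centralizer ({val tq} : Set G))).Normal] :
    Cfsg.IsQuasisimple ↥KK ∧ KK.index = 2 ∧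
      (∃ htc : val tq ∈ centralizer ({val tq} : Set G), (⟨val tq, htc⟩ : ↥(centralizer ({val tq} : Set G))) ∈ KK) ∧
      Nonempty (↥(centralizer ({val tq} : Set G)) ⧸ (zpowers (val tq)).subgroupOf (centralizer ({val tq} : Set G)) ≃*
        MulAut Cfsg.Spor.Fi22) := by
  classical
  revert KK
  set C := centralizer ({val tq} : Set G)
  set Z := (zpowers (val tq)).subgroupOf C
  set pr := QuotientGroup.mk' Z with hpr
  set K₀ := d.tau.ker with hK₀
  have hXC : X ≤ C := d.X_le hX hperf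
  have hXK : ∀ g : ↥C, (g : G) ∈ X → g ∈ K₀ := fun g hg => d.tau_X hX hperf hg
  have htX : val tq ∈ X := (hX _).2 ⟨rfl, d.ctx.comm d.t_mem d.u_mem⟩
  have huX : val uq ∈ X := (hX _).2 ⟨d.ctx.comm d.u_mem d.t_mem, rfl⟩
  have hZmem : ∀ g : ↥C, g ∈ Z ↔ (g : G) = 1 ∨ (g : G) = val tq := by
    intro g
    rw [Subgroup.mem_subgroupOf]
    refine ⟨CfsgLib.U6Recog.mul_self_zpowers d.tt, ?_⟩
    rintro (e | e) <;> rw [e]
    exacts [one_mem _, mem_zpowers _]
  have hpr_eq : ∀ g h : ↥C, pr g = pr h ↔ (h : G) = (g : G) ∨ (h : G) = (g : G) * val tq := by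
    intro g h
    rw [hpr, QuotientGroup.mk'_apply, QuotientGroup.mk'_apply, QuotientGroup.eq, hZmem]
    simp only [Subgroup.coe_mul, InvMemClass.coe_inv]
    rw [inv_mul_eq_one, inv_mul_eq_iff_eq_mul]
    exact or_congr eq_comm Iff.rfl
  have hZK : Z ≤ K₀ := fun g hg => hXK g (((hZmem g).1 hg).elim (fun e => e ▸ one_mem X) fun e => e ▸ htX)
  obtain ⟨w, hwa, hwt, hw⟩ := d.exists_tau_ne hX hperf
  have hK₀i : K₀.index = 2 := by
    rw [hK₀, Subgroup.index_ker, show d.tau.range = ⊤ from eq_top_iff.2 fun y _ => ?_, Subgroup.card_top]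
    · simp [Nat.card_eq_fintype_card]
    · rcases mz2_cases y with rfl | rfl
      · exact one_mem _
      · exact ⟨_, mz2_eq_of_ne _ _ hw mz2_one_ne⟩
  set Kb : Subgroup (↥C ⧸ Z) := K₀.map pr
  haveI : Kb.Normal := (inferInstance : K₀.Normal).map pr (QuotientGroup.mk'_surjective Z)
  have hKb : ∀ g : ↥C, pr g ∈ Kb ↔ g ∈ K₀ := fun g => by
    refine ⟨fun ⟨k, hk, e⟩ => ?_, fun h => ⟨g, h, rfl⟩⟩
    have h1 : k⁻¹ * g ∈ Z := QuotientGroup.eq.1 e
    simpa using mul_mem hk (hZK h1)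
  set uC : ↥C := ⟨val uq, hXC huX⟩
  set db : ↥Kb := ⟨pr uC, (hKb _).2 (hXK uC huX)⟩
  -- the swap
  obtain ⟨g₀, hg₀, h0a, h0b, h0u⟩ := CfsgLib.Golay.M24_map_three d.ab d.au d.bu d.ab.symm d.bu d.au
  obtain ⟨sw, hsw, hswt⟩ := d.exists_normal hg₀ (Or.inr ⟨h0a, h0b⟩)
  set sC : ↥C := ⟨(sw : G), mem_centralizer_singleton_iff.2 hswt⟩
  have hsu : (sw : G) * val uq * (sw : G)⁻¹ = val uq * val tq := by
    rw [d.hu, d.lab.equiv, hsw, h0b, h0u, ← d.hu, d.ut]
  have hsK : sC ∉ K₀ := fun h => d.ab (((d.tau_iff hX hperf sw hswt).1 h).symm.trans (by rw [hsw, h0a]))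
  -- the centraliser of the image
  set Cd := centralizer ({db} : Set ↥Kb)
  have hcd : ∀ k : ↥C, k ∈ K₀ → pr k * pr uC = pr uC * pr k → (k : G) ∈ X := by
    intro k hk h
    have hkt : (k : G) * val tq = val tq * (k : G) := mem_centralizer_singleton_iff.1 k.2
    rw [← map_mul, ← map_mul, hpr_eq] at h
    rcases h with e | e
    · exact (hX _).2 ⟨hkt, e.symm⟩
    · exfalso
      have h1 : (k : G) * val uq * (k : G)⁻¹ = val uq * val tq := by
        have e' : val uq * (k : G) = (k : G) * val uq * val tq := e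
        have e2 : (k : G) * val uq = val uq * (k : G) * val tq := by rw [e', mul_assoc, d.tt, mul_one]
        rw [e2, mul_assoc (val uq), hkt, ← mul_assoc, mul_inv_cancel_right]
      have hcu : ((sC⁻¹ * k : ↥C) : G) ∈ X := by
        refine (hX _).2 ⟨(Commute.inv_left hswt).mul_left hkt, mul_inv_eq_iff_eq_mul.1 ?_⟩
        show (sw : G)⁻¹ * (k : G) * val uq * ((sw : G)⁻¹ * (k : G))⁻¹ = val uq
        calc (sw : G)⁻¹ * (k : G) * val uq * ((sw : G)⁻¹ * (k : G))⁻¹
            = (sw : G)⁻¹ * ((k : G) * val uq * (k : G)⁻¹) * (sw : G) := by group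
          _ = val uq := by rw [h1, ← hsu]; group
      apply hsK
      have h2 : k * (sC⁻¹ * k)⁻¹ ∈ K₀ := mul_mem hk (inv_mem (hXK _ hcu))
      simpa using h2
  let j : ↥X →* ↥Cd :=
    { toFun := fun g => ⟨⟨pr ⟨g, hXC g.2⟩, (hKb _).2 (hXK _ g.2)⟩, mem_centralizer_singleton_iff.2 (Subtype.ext (by
        show pr ⟨g, hXC g.2⟩ * pr uC = pr uC * pr ⟨g, hXC g.2⟩
        rw [← map_mul, ← map_mul]
        exact congrArg pr (Subtype.ext ((hX _).1 g.2).2)))⟩
      map_one' := Subtype.ext (Subtype.ext (map_one pr))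
      map_mul' := fun x y => Subtype.ext (Subtype.ext (map_mul pr ⟨_, hXC x.2⟩ ⟨_, hXC y.2⟩)) }
  have hj : Function.Surjective j := by
    rintro ⟨⟨y, hy⟩, hyd⟩
    obtain ⟨k, hk, rfl⟩ := hy
    exact ⟨⟨k, hcd k hk (congrArg Subtype.val (mem_centralizer_singleton_iff.1 hyd))⟩, rfl⟩
  have hjk : ∀ g : ↥X, j g = 1 ↔ (g : G) = 1 ∨ (g : G) = val tq := fun g => by
    constructor
    · intro h
      exact (hZmem ⟨g, hXC g.2⟩).1 ((QuotientGroup.eq_one_iff _).1
        (congrArg (fun y : ↥Cd => ((y : ↥Kb) : ↥C ⧸ Z)) h))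
    · intro h
      exact Subtype.ext (Subtype.ext ((QuotientGroup.eq_one_iff _).2 ((hZmem ⟨g, hXC g.2⟩).2 h)))
  have hkle : j.ker ≤ θ.ker := fun g hg =>
    (hθk g).2 (((hjk g).1 hg).elim Or.inl fun e => Or.inr (Or.inl e))
  let πd : ↥Cd →* Cfsg.PSU 6 F 2 := j.liftOfSurjective hj ⟨θ, hkle⟩
  have hπd : ∀ g, πd (j g) = θ g := fun g => j.liftOfRightInverse_comp_apply _ _ ⟨θ, hkle⟩ g
  have hdb2 : db * db = 1 := Subtype.ext (by
    show pr uC * pr uC = 1
    rw [← map_mul, show uC * uC = 1 from Subtype.ext d.uu, map_one])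
  have hu_ne : val uq ≠ 1 ∧ val uq ≠ val tq :=
    ⟨(d.hu ▸ d.lab.pair b u d.bu).2.1, fun e => d.pi_u_ne.2 (congrArg π (Subtype.ext (Subtype.ext e) : uq = tq))⟩
  have hdb1 : db ≠ 1 := fun h => by
    rcases (hZmem uC).1 ((QuotientGroup.eq_one_iff _).1 (congrArg Subtype.val h)) with e | e
    exacts [hu_ne.1 e, hu_ne.2 e]
  have hju : j ⟨val uq, huX⟩ = ⟨db, mem_centralizer_singleton_iff.2 rfl⟩ := rfl
  have W : CfsgLib.U6.DCover πd ⟨db, mem_centralizer_singleton_iff.2 rfl⟩ := by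
    refine ⟨fun y => ?_, fun y hy => ?_, ?_, fun y => Subtype.ext ?_, Subtype.ext hdb2⟩
    · obtain ⟨g, rfl⟩ := hθ y
      exact ⟨j g, hπd g⟩
    · obtain ⟨g, rfl⟩ := hj y
      rw [hπd, hθk] at hy
      rcases hy with e | e | e | e
      · exact Or.inl ((hjk g).2 (Or.inl e))
      · exact Or.inl ((hjk g).2 (Or.inr e))
      · exact Or.inr (by rw [show g = ⟨val uq, huX⟩ from Subtype.ext e]; rfl)
      · refine Or.inr ?_
        rw [show g = ⟨val uq, huX⟩ * ⟨val tq, htX⟩ from Subtype.ext e, map_mul, (hjk ⟨val tq, htX⟩).2 (Or.inr rfl), mul_one]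
        rfl
    · rw [← hju, hπd]
      exact (hθk _).2 (Or.inr (Or.inr (Or.inl rfl)))
    · exact (mem_centralizer_singleton_iff.1 y.2).symm
  -- another conjugate commuting with it
  have hnwc : ∃ g : ↥Kb, g * db * g⁻¹ ∈ centralizer ({db} : Set ↥Kb) ∧ g * db * g⁻¹ ≠ db := by
    obtain ⟨g₁, hg₁, h1a, h1b, h1u⟩ := CfsgLib.Golay.M24_map_three d.ab d.au d.bu d.ab d.av d.bv
    obtain ⟨mv, hmv, hmvt⟩ := d.exists_normal hg₁ (Or.inl ⟨h1a, h1b⟩)
    set mC : ↥C := ⟨(mv : G), mem_centralizer_singleton_iff.2 hmvt⟩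
    have hmK : mC ∈ K₀ := (d.tau_iff hX hperf mv hmvt).2 (by rw [hmv, h1a])
    have hmu : ((mC * uC * mC⁻¹ : ↥C) : G) = val uq * (val tq * z) := by
      show (mv : G) * val uq * (mv : G)⁻¹ = _
      rw [d.utz, d.hu, d.lab.equiv, hmv, h1b, h1u]
    refine ⟨⟨pr mC, (hKb _).2 hmK⟩, mem_centralizer_singleton_iff.2 (Subtype.ext ?_), fun h => ?_⟩
    · show pr mC * pr uC * (pr mC)⁻¹ * pr uC = pr uC * (pr mC * pr uC * (pr mC)⁻¹)
      rw [← map_inv, ← map_mul, ← map_mul, ← map_mul, ← map_mul]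
      refine congrArg pr (Subtype.ext ?_)
      show ((mC * uC * mC⁻¹ : ↥C) : G) * val uq = val uq * ((mC * uC * mC⁻¹ : ↥C) : G)
      rw [hmu]
      exact d.ctx.comm (mul_mem d.u_mem (mul_mem d.t_mem d.ctx.z_mem)) d.u_mem
    · have h' : pr (mC * uC * mC⁻¹) = pr uC := by
        rw [map_mul, map_mul, map_inv]
        exact congrArg Subtype.val h
      rw [hpr_eq, hmu] at h'
      rcases h' with e | e
      · have e' : val tq * z = 1 := left_eq_mul.1 e
        exact d.t_ne_z (by rw [← mul_one (val tq), ← d.ctx.zz, ← mul_assoc, e', one_mul])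
      · have e1 : (1 : G) = val tq * z * val tq := mul_left_cancel (a := val uq) (by
          rw [mul_one, ← mul_assoc]; exact e)
        rw [mul_assoc, d.ctx.comm d.ctx.z_mem d.t_mem, ← mul_assoc, d.tt, one_mul] at e1
        exact d.ctx.z_ne e1.symm
  let R : CfsgLib.U6Recog.Rec db F :=
    ⟨by rw [hF4]; norm_num, orderOf_eq_prime (by rw [pow_two, hdb2]) hdb1, πd, W,
      commutator_top_of_surjective j hj hperf, hnwc⟩
  have S := R.setup
  obtain ⟨e, -⟩ := CfsgLib.M22.exists_fi22_iso S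
  haveI := CfsgLib.Fi22P.simple
  haveI hsimple : IsSimpleGroup ↥Kb := e.symm.isSimpleGroup
  have hcen : Subgroup.center ↥Kb = ⊥ := S.type.1
  have hKperf : commutator ↥Kb = ⊤ :=
    ((inferInstance : (commutator ↥Kb).Normal).eq_bot_or_eq_top).resolve_left fun h => by
      have hc : Subgroup.center ↥Kb = ⊤ := eq_top_iff.2 fun y _ => Subgroup.mem_center_iff.2 fun g =>
        commutatorElement_eq_one_iff_mul_comm.1 (Subgroup.mem_bot.1 (h ▸ (by
          rw [_root_.commutator_def]; exact Subgroup.commutator_mem_commutator (mem_top g) (mem_top y))))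
      exact hdb1 (Subgroup.mem_bot.1 (hcen ▸ (hc.symm ▸ Subgroup.mem_top db)))
  -- the subgroup of index two is perfect
  let p₀ : ↥K₀ →* ↥Kb := pr.subgroupMap K₀
  have hp₀ : Function.Surjective p₀ := pr.subgroupMap_surjective K₀
  have htK : (⟨val tq, hXC htX⟩ : ↥C) ∈ K₀ := hXK _ htX
  have htcomm : (⟨_, htK⟩ : ↥K₀) ∈ commutator ↥K₀ := by
    let i : ↥X →* ↥K₀ := (Subgroup.inclusion hXC).codRestrict K₀ fun g => hXK _ g.2
    have h1 : i ⟨val tq, htX⟩ ∈ (commutator ↥X).map i := Subgroup.mem_map_of_mem i (hperf ▸ mem_top _)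
    rw [_root_.commutator_def, Subgroup.map_commutator] at h1
    exact Subgroup.commutator_mono le_top le_top h1
  have hker₀ : ∀ k : ↥K₀, p₀ k = 1 → ((k : ↥C) : G) = 1 ∨ ((k : ↥C) : G) = val tq := fun k hk =>
    (hZmem _).1 ((QuotientGroup.eq_one_iff _).1 (congrArg Subtype.val hk))
  have hperf₀ : commutator ↥K₀ = ⊤ := by
    refine eq_top_iff.2 fun k _ => ?_
    obtain ⟨c, hc, hck⟩ : p₀ k ∈ (commutator ↥K₀).map p₀ := by
      rw [_root_.commutator_def, Subgroup.map_commutator, Subgroup.map_top_of_surjective p₀ hp₀,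
        ← _root_.commutator_def, hKperf]
      exact mem_top _
    have h1 : p₀ (c⁻¹ * k) = 1 := by rw [map_mul, map_inv, hck, inv_mul_cancel]
    rcases hker₀ _ h1 with r | r
    · rwa [← inv_mul_eq_one.1 (show c⁻¹ * k = 1 from Subtype.ext (Subtype.ext r))]
    · rw [show k = c * ⟨_, htK⟩ by rw [← show c⁻¹ * k = ⟨_, htK⟩ from Subtype.ext (Subtype.ext r), mul_inv_cancel_left]]
      exact mul_mem hc htcomm
  have hker₁ : p₀.ker ≤ Subgroup.center ↥K₀ := fun k hk => Subgroup.mem_center_iff.2 fun g => by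
    refine Subtype.ext (Subtype.ext ?_)
    show ((g : ↥C) : G) * ((k : ↥C) : G) = ((k : ↥C) : G) * ((g : ↥C) : G)
    rcases hker₀ k hk with r | r <;> rw [r]
    · rw [mul_one, one_mul]
    · exact mem_centralizer_singleton_iff.1 (g : ↥C).2
  have hqs := (CfsgLib.M24.quasisimple_of_surjective ⟨hperf₀⟩ p₀ hp₀ hker₁ hcen).1
  -- nothing else centralises the simple section
  have hfaith : ∀ g : ↥C, (∀ k ∈ K₀, pr g * pr k = pr k * pr g) → g ∈ Z := by
    intro g hg
    by_cases hgK : g ∈ K₀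
    · have h1 : (⟨pr g, (hKb g).2 hgK⟩ : ↥Kb) ∈ Subgroup.center ↥Kb := Subgroup.mem_center_iff.2 fun y => by
        obtain ⟨k, hk, hky⟩ := y.2
        refine Subtype.ext ?_
        show (y : ↥C ⧸ Z) * pr g = pr g * (y : ↥C ⧸ Z)
        rw [← hky, hg k hk]
      rw [hcen, Subgroup.mem_bot] at h1
      exact (QuotientGroup.eq_one_iff _).1 (congrArg Subtype.val h1)
    exfalso
    have hgt : (g : G) * val tq = val tq * (g : G) := mem_centralizer_singleton_iff.1 g.2
    have hcl : ∀ e ∈ A, (g : G) * e * (g : G)⁻¹ = e ∨ (g : G) * e * (g : G)⁻¹ = e * val tq := by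
      intro e he
      have h := hg (d.elt he) (d.tau_A hX hperf (g := d.elt he) he)
      rw [← map_mul, ← map_mul, hpr_eq] at h
      change e * (g : G) = (g : G) * e ∨ e * (g : G) = (g : G) * e * val tq at h
      rcases h with r | r
      · exact Or.inl (by rw [← r, mul_inv_cancel_right])
      · refine Or.inr ?_
        have r' : (g : G) * e = e * (g : G) * val tq := by rw [r, mul_assoc, d.tt, mul_one]
        rw [r', mul_assoc e, hgt, ← mul_assoc, mul_inv_cancel_right]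
    have hgN : (g : G) ∈ Subgroup.normalizer (A : Set G) := d.ctx.mem_normalizer fun e he => by
      rcases hcl e he with r | r <;> rw [r]
      exacts [he, mul_mem he d.t_mem]
    set m : ↥(Subgroup.normalizer (A : Set G)) := ⟨(g : G), hgN⟩
    have hna : ψ m a ≠ a := fun r => hgK ((d.tau_iff hX hperf m hgt).2 r)
    obtain ⟨hma, hmb⟩ := (d.fix_pair m hgt).resolve_left fun r => hna r.1
    have hdu : ∀ p r, p ≠ r → p ≠ a → p ≠ b → r ≠ a → r ≠ b →
        (p = ψ m p ∧ r = ψ m r) ∨ (p = ψ m r ∧ r = ψ m p) := by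
      intro p r hpr hpa hpb hra hrb
      have he : f p * f r ∈ A := mul_mem (d.lab.mem p) (d.lab.mem r)
      refine d.lab.inj _ _ _ _ hpr ?_
      rw [← d.lab.equiv m p r]
      rcases hcl _ he with e | e
      · exact e.symm
      · exfalso
        have hN := d.ctx.Ns_conj m.2 (d.lab.pair p r hpr)
        rw [show (m : G) * (f p * f r) * (m : G)⁻¹ = f p * f r * (f a * f b) from e.trans (by rw [d.ht])] at hN
        exact (d.lab.quad p r a b hpr d.ab hpa hpb hra hrb).1 hN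
    have hfix : ∀ p, p ≠ a → p ≠ b → ψ m p = p := by
      intro p hpa hpb
      by_contra hp
      obtain ⟨k, -, hk⟩ := Finset.exists_mem_notMem_of_card_lt_card
        (s := ({a, b, p, ψ m p} : Finset GolayPt)) (t := Finset.univ) (by
          rw [Finset.card_univ, Fintype.card_congr CfsgLib.Golay.ptEquiv, Fintype.card_fin]
          exact lt_of_le_of_lt Finset.card_le_four (by norm_num))
      simp only [Finset.mem_insert, Finset.mem_singleton, not_or] at hk
      rcases hdu p k (Ne.symm hk.2.2.1) hpa hpb hk.1 hk.2.1 with ⟨h1, -⟩ | ⟨-, h2⟩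
      · exact hp h1.symm
      · exact hk.2.2.2 h2
    refine swap_notMem_M24 d.ab ?_
    rw [← show ψ m = Equiv.swap a b from Equiv.ext fun p => ?_, ← d.lab.range]
    · exact ⟨m, rfl⟩
    · by_cases hpa : p = a
      · rw [hpa, hma, Equiv.swap_apply_left]
      by_cases hpb : p = b
      · rw [hpb, hmb, Equiv.swap_apply_right]
      rw [hfix p hpa hpb, Equiv.swap_apply_of_ne_of_ne hpa hpb]
  have hCK : centralizer (K₀ : Set ↥C) ≤ K₀ := fun g hg => hZK (hfaith g fun k hk => by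
    rw [← map_mul, ← map_mul, Subgroup.mem_centralizer_iff.1 hg k hk])
  intro KK hK
  have hKeq : KK = K₀ := hK.trans (CfsgLib.M24Tri.genFitting_eq_of_quasisimple K₀ hqs hCK)
  subst hKeq
  refine ⟨hqs, hK₀i, ⟨hXC htX, htK⟩, ?_⟩
  -- the whole quotient is the automorphism group
  let Φ : ↥C ⧸ Z →* MulAut ↥Kb := MulAut.conjNormal
  have hΦ : Function.Injective Φ := (injective_iff_map_eq_one Φ).2 fun y hy => by
    obtain ⟨g, rfl⟩ := QuotientGroup.mk'_surjective Z y
    refine (QuotientGroup.eq_one_iff g).2 (hfaith g fun k hk => ?_)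
    have h := congrArg Subtype.val (DFunLike.congr_fun hy ⟨pr k, (hKb k).2 hk⟩)
    rw [MulAut.conjNormal_apply] at h
    exact mul_inv_eq_iff_eq_mul.1 h
  obtain ⟨F', _, _, hF', hM⟩ := S.exists_models
  have haut := CfsgLib.M22.card_mulAut_of_out S hF' hM e CfsgLib.Fi22P.Out.card_out
  have hcard : Nat.card (↥C ⧸ Z) = Nat.card (MulAut ↥Kb) := by
    rw [haut, ← Kb.card_mul_index, index_map_eq d.tau.ker (QuotientGroup.mk'_surjective Z)
      (le_of_eq_of_le (QuotientGroup.ker_mk' Z) hZK), hK₀i, mul_comm]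
  haveI : Finite (MulAut ↥Kb) := Finite.of_injective (fun σ => (σ : ↥Kb → ↥Kb)) fun σ τ h => DFunLike.coe_injective h
  exact ⟨(MulEquiv.ofBijective Φ ((Nat.bijective_iff_injective_and_card Φ).2 ⟨hΦ, hcard⟩)).trans
    (MulAut.congr e.symm)⟩

end Cfg

end CfsgLib.LargeFischer.Inner
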